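import Groth.Prelude.Def_ComodTens
import Groth.Prelude.Def_ComodDual
import Groth.Prelude.Def_Hoch
import Mathlib.RingTheory.Flat.EquationalCriterion
import Mathlib.RingTheory.HopfAlgebra.Convolution
import Mathlib.LinearAlgebra.Contraction

/-! Linear maps between comodules as a comodule: fixed vectors are comodule maps. -/

noncomputable section

open TensorProduct HopfRep WithConv

namespace ComodLib

universe u v w w'

section Inj

variable {k : Type u} [CommRing k] {M : Type w'} [AddCommGroup M] [Module k M]
  {N : Type w} [AddCommGroup N] [Module k N]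

/-- For finite `M` and flat `N` the map `M^* ⊗ N → Hom(M, N)` is injective. -/
lemma dualTensorHom_injective_of_flat [Module.Finite k M] [Module.Flat k N] :
    Function.Injective (dualTensorHom k M N) := by
  obtain ⟨n, f, hf⟩ := Module.Finite.exists_fin' k M
  have h1 : Function.Injective (f.dualMap.rTensor N) :=
    Module.Flat.rTensor_preserves_injective_linearMap _ (LinearMap.dualMap_injective_of_surjective hf)
  refine Function.Injective.of_comp (f := LinearMap.lcomp k N f) ?_
  rw [← LinearMap.coe_comp, ← dualTensorHom_comp_rTensor_dualMap, LinearMap.coe_comp]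
  exact (dualTensorHom_bijective).1.comp h1

/-- For finitely presented `M` and flat `N` the map `M^* ⊗ N → Hom(M, N)` is surjective. -/
lemma dualTensorHom_surjective_of_flat [Module.FinitePresentation k M] [Module.Flat k N] :
    Function.Surjective (dualTensorHom k M N) := by
  intro h
  obtain ⟨n, h₂, h₃, rfl⟩ := Module.Flat.exists_factorization_of_finitePresentation h
  obtain ⟨x, hx⟩ := (dualTensorHom_bijective (R := k) (M := Fin n →₀ k) (N := N)).2 h₃
  refine ⟨h₂.dualMap.rTensor N x, ?_⟩
  rw [← LinearMap.comp_apply, dualTensorHom_comp_rTensor_dualMap, LinearMap.comp_apply, hx]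
  rfl

end Inj

variable {k : Type u} [CommRing k] {A : Type v} [CommRing A] [HopfAlgebra k A]
  {B : Type w} [AddCommGroup B] [Module k B] {M : Type w'} [AddCommGroup M] [Module k M]

/-- Multiply the algebra components: `(b ⊗ a) ⊗ a' ↦ b ⊗ a a'`. -/
def mulR : (B ⊗[k] A) ⊗[k] A →ₗ[k] B ⊗[k] A :=
  (LinearMap.mul' k A).lTensor B ∘ₗ (TensorProduct.assoc k B A A).toLinearMap

@[simp] lemma mulR_tmul (b : B) (a a' : A) :
    mulR ((b ⊗ₜ[k] a) ⊗ₜ[k] a') = b ⊗ₜ[k] (a * a') := by simp [mulR]

lemma mulR_mulR (y : B ⊗[k] A) (a a' : A) :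
    mulR (mulR (y ⊗ₜ[k] a) ⊗ₜ[k] a') = mulR (y ⊗ₜ[k] (a * a')) := by
  induction y with
  | zero => simp [TensorProduct.zero_tmul]
  | tmul b c => simp [mul_assoc]
  | add y z hy hz => simp only [add_tmul, map_add, hy, hz]

lemma mulR_tmul_one (y : B ⊗[k] A) : mulR (y ⊗ₜ[k] (1 : A)) = y := by
  induction y with
  | zero => simp [TensorProduct.zero_tmul]
  | tmul b c => simp
  | add y z hy hz => simp only [add_tmul, map_add, hy, hz]

variable (cM : Comod k A M)

/-- The twist `v ↦ g(v₀) s(v₁)`. -/
def tw (s : A →ₗ[k] A) (g : M →ₗ[k] B ⊗[k] A) : M →ₗ[k] B ⊗[k] A :=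
  mulR ∘ₗ TensorProduct.map g s ∘ₗ cM.coact

lemma tw_tw (s t : A →ₗ[k] A) (g : M →ₗ[k] B ⊗[k] A) :
    tw cM s (tw cM t g) = tw cM (toConv t * toConv s).ofConv g := by
  refine LinearMap.ext fun v => ?_
  have hc : TensorProduct.assoc k M A A (cM.coact.rTensor A (cM.coact v)) =
      (CoalgebraStruct.comul (R := k) (A := A)).lTensor M (cM.coact v) :=
    LinearMap.congr_fun cM.coassoc v
  have key : ∀ z : M ⊗[k] A, mulR (TensorProduct.map (tw cM t g) s z) =
      mulR (TensorProduct.map g (LinearMap.mul' k A ∘ₗ TensorProduct.map t s)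
        (TensorProduct.assoc k M A A (cM.coact.rTensor A z))) := by
    intro z
    induction z with
    | zero => simp
    | tmul x b =>
      simp only [TensorProduct.map_tmul, LinearMap.rTensor_tmul, tw, LinearMap.comp_apply]
      generalize cM.coact x = y
      induction y with
      | zero => simp [TensorProduct.zero_tmul]
      | tmul m a => simp [mulR_mulR]
      | add y y' hy hy' => simp only [add_tmul, map_add, hy, hy']
    | add z z' hz hz' => simp only [map_add, hz, hz']
  show mulR (TensorProduct.map (tw cM t g) s (cM.coact v)) =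
    mulR (TensorProduct.map g (toConv t * toConv s).ofConv (cM.coact v))
  rw [key, hc, LinearMap.convMul_def]
  generalize cM.coact v = z
  induction z with
  | zero => simp
  | tmul x b => simp
  | add z z' hz hz' => simp only [map_add, hz, hz']

lemma tw_one (g : M →ₗ[k] B ⊗[k] A) : tw cM (1 : WithConv (A →ₗ[k] A)).ofConv g = g := by
  refine LinearMap.ext fun v => ?_
  have hc := LinearMap.congr_fun cM.counit_comp v
  simp only [LinearMap.comp_apply] at hc
  have key : ∀ z : M ⊗[k] A, mulR (TensorProduct.map g (1 : WithConv (A →ₗ[k] A)).ofConv z) =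
      g (TensorProduct.rid k M ((CoalgebraStruct.counit (R := k) (A := A)).lTensor M z)) := by
    intro z
    induction z with
    | zero => simp
    | tmul x a =>
      simp [LinearMap.convOne_def, Algebra.algebraMap_eq_smul_one, mulR_tmul_one]
    | add z z' hz hz' => simp only [map_add, hz, hz']
  show mulR (TensorProduct.map g _ (cM.coact v)) = g v
  rw [key, hc]
  simp

/-- `h ↦ (v ↦ h v ⊗ 1)`. -/
def unitR (h : M →ₗ[k] B) : M →ₗ[k] B ⊗[k] A := (TensorProduct.mk k B A).flip 1 ∘ₗ h

lemma rTensor_eq_mulR (h : M →ₗ[k] B) (z : M ⊗[k] A) :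
    h.rTensor A z = mulR (TensorProduct.map (unitR h) LinearMap.id z) := by
  induction z with
  | zero => simp
  | tmul x a => simp [unitR]
  | add z z' hz hz' => simp only [map_add, hz, hz']

variable (cB : Comod k A B)

lemma isComodHom_iff_tw (h : M →ₗ[k] B) :
    @Hoch.IsComodHom k _ A _ _ _ M _ _ cM B _ _ cB h ↔
      tw cM (HopfAlgebra.antipode k) (cB.coact ∘ₗ h) = unitR h := by
  have e : h.rTensor A ∘ₗ cM.coact = tw cM LinearMap.id (unitR h) :=
    LinearMap.ext fun v => rTensor_eq_mulR h _
  show cB.coact ∘ₗ h = h.rTensor A ∘ₗ cM.coact ↔ _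
  rw [e]
  constructor
  · intro h'
    rw [h', tw_tw, show toConv (LinearMap.id : A →ₗ[k] A) * toConv (HopfAlgebra.antipode k) = 1 from
      LinearMap.id_mul_antipode, tw_one]
  · intro h'
    rw [← h', tw_tw, LinearMap.antipode_mul_id, tw_one]

/-- The reading of `(B ⊗ M^*) ⊗ A` as maps `M → B ⊗ A`. -/
def homA : (B ⊗[k] Module.Dual k M) ⊗[k] A →ₗ[k] M →ₗ[k] B ⊗[k] A :=
  dualTensorHom k M (B ⊗[k] A) ∘ₗ (TensorProduct.assoc k (Module.Dual k M) B A).toLinearMap ∘ₗ
    (TensorProduct.comm k B (Module.Dual k M)).toLinearMap.rTensor A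

lemma homA_injective [Module.Finite k M] [Module.Flat k B] [Module.Flat k A] :
    Function.Injective (homA (k := k) (A := A) (B := B) (M := M)) :=
  dualTensorHom_injective_of_flat.comp ((TensorProduct.assoc k (Module.Dual k M) B A).injective.comp
    (TensorProduct.congr (TensorProduct.comm k B (Module.Dual k M)) (LinearEquiv.refl k A)).injective)

/-- The reading of `B ⊗ M^*` as maps `M → B`. -/
def homB : B ⊗[k] Module.Dual k M →ₗ[k] M →ₗ[k] B :=
  dualTensorHom k M B ∘ₗ (TensorProduct.comm k B (Module.Dual k M)).toLinearMap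

lemma homA_tmul_one (x : B ⊗[k] Module.Dual k M) :
    homA (x ⊗ₜ[k] (1 : A)) = unitR (A := A) (homB x) := by
  induction x with
  | zero => ext; simp [homA, homB, unitR]
  | tmul b f => ext; simp [homA, homB, unitR, TensorProduct.smul_tmul']
  | add x y hx hy =>
    rw [add_tmul, map_add, map_add, hx, hy]
    exact LinearMap.ext fun v => by simp [unitR]

lemma homA_coact (d : Comod k A (Module.Dual k M)) (hd : ComodTens.Comod.IsDual cM d)
    (x : B ⊗[k] Module.Dual k M) :
    homA ((ComodTens.Comod.tensor cB d).coact x) =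
      tw cM (HopfAlgebra.antipode k) (cB.coact ∘ₗ homB x) := by
  refine LinearMap.ext fun v => ?_
  induction x with
  | zero => simp [tw]
  | tmul b f =>
    have h1 : ∀ (z : B ⊗[k] A) (w : Module.Dual k M ⊗[k] A),
        homA (TensorProduct.map LinearMap.id (LinearMap.mul' k A)
          (AlgebraTensorModule.tensorTensorTensorComm k k k k B A (Module.Dual k M) A (z ⊗ₜ[k] w))) v =
        mulR (z ⊗ₜ[k] dualTensorHom k M A w v) := by
      intro z w
      induction z with
      | zero => simp [TensorProduct.zero_tmul]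
      | tmul b' a' =>
        induction w with
        | zero => simp [TensorProduct.tmul_zero]
        | tmul f' c => simp [homA, TensorProduct.smul_tmul]
        | add w w' hw hw' => simp only [tmul_add, map_add, LinearMap.add_apply, hw, hw']
      | add z z' hz hz' => simp only [add_tmul, map_add, LinearMap.add_apply, hz, hz']
    rw [ComodTens.tensor_coact_tmul, h1, hd f, ComodTens.dualCoactFun_apply]
    show _ = mulR (TensorProduct.map _ _ (cM.coact v))
    generalize cM.coact v = z
    induction z with
    | zero => simp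
    | tmul m a =>
      simp only [TensorProduct.map_tmul, TensorProduct.lid_tmul, LinearMap.comp_apply, homB,
        LinearEquiv.coe_coe, TensorProduct.comm_tmul, dualTensorHom_apply, map_smul]
      rw [TensorProduct.smul_tmul]
    | add z z' hz hz' => simp only [map_add, tmul_add, hz, hz']
  | add x y hx hy =>
    simp only [map_add, LinearMap.add_apply, hx, hy, tw, LinearMap.comp_add,
      TensorProduct.map_add_left, LinearMap.comp_apply]

lemma mem_fixedPts_iff_isComodHom [Module.Finite k M] [Module.Flat k B] [Module.Flat k A]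
    (d : Comod k A (Module.Dual k M)) (hd : ComodTens.Comod.IsDual cM d)
    (x : B ⊗[k] Module.Dual k M) :
    x ∈ @fixedPts k A _ _ _ (B ⊗[k] Module.Dual k M) _ _ (ComodTens.Comod.tensor cB d) ↔
      @Hoch.IsComodHom k _ A _ _ _ M _ _ cM B _ _ cB (homB x) := by
  rw [isComodHom_iff_tw, ← homA_coact cM cB d hd, ← homA_tmul_one, homA_injective.eq_iff]
  rfl

end ComodLib

end
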