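import Groth.Agent.ComodLib.Coeff

/-! Semisimple comodules, cosemisimple coalgebras, comodule structures on subcomodules. -/

noncomputable section

open TensorProduct HopfRep WithConv

namespace ComodLib

universe u v w w'

variable {k : Type u} [Field k] {A : Type v} [AddCommGroup A] [Module k A] [Coalgebra k A]
  {V : Type w} [AddCommGroup V] [Module k V] [Comod k A V]

local notation "𝔸" => Dual' k A

lemma restrictScalars_iSupIndep {ι : Type*} {f : ι → Submodule 𝔸 V} :
    iSupIndep (fun i => (f i).restrictScalars k) ↔ iSupIndep f := by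
  simp only [iSupIndep, disjoint_iff]
  refine forall_congr' fun i => ?_
  rw [show (⨆ (j) (_ : j ≠ i), (f j).restrictScalars k) =
    (⨆ (j) (_ : j ≠ i), f j).restrictScalars k by simp only [Submodule.restrictScalars_iSup]]
  exact Submodule.restrictScalars_eq_bot_iff k 𝔸 V (p := f i ⊓ _)

lemma restrictScalars_iSup_eq_top {ι : Type*} {f : ι → Submodule 𝔸 V} :
    (⨆ i, (f i).restrictScalars k) = ⊤ ↔ (⨆ i, f i) = ⊤ := by
  rw [← Submodule.restrictScalars_iSup]
  exact Submodule.restrictScalars_eq_top_iff k 𝔸 V

lemma isSimple_sub_iff (S : Submodule 𝔸 V) :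
    IsSimpleModule 𝔸 S ↔ S.restrictScalars k ≠ ⊥ ∧ ∀ W : Submodule k V,
      IsSubcomod (k := k) (A := A) W → W ≤ S.restrictScalars k →
        W = ⊥ ∨ W = S.restrictScalars k := by
  rw [isSimpleModule_iff_isAtom]
  constructor
  · intro h
    refine ⟨fun h0 => h.1 ((Submodule.restrictScalars_eq_bot_iff k 𝔸 V).1 h0), fun W hW hle => ?_⟩
    rcases (h.le_iff (x := toSub W hW)).1 hle with h' | h'
    · exact Or.inl (by rw [← toSub_restrictScalars W hW, h']; rfl)
    · exact Or.inr (by rw [← h']; rfl)
  · rintro ⟨h0, h⟩
    refine ⟨fun e => h0 (by rw [e]; rfl), fun T hT => ?_⟩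
    rcases h (T.restrictScalars k) (isSubcomod_restrictScalars T) hT.le with h' | h'
    · exact (Submodule.restrictScalars_eq_bot_iff k 𝔸 V).1 h'
    · exact absurd (Submodule.restrictScalars_injective k 𝔸 V h') hT.ne

/-- A comodule with coefficients in a semisimple submodule is semisimple. -/
lemma isSemisimpleModule_of_coeffSpace_le {D : Submodule 𝔸 A} [IsSemisimpleModule 𝔸 D]
    (h : coeffSpace A k V ≤ D) : IsSemisimpleModule 𝔸 V := by
  refine isSemisimpleModule_of_isSemisimpleModule_submodule'
    (p := fun v : V => Submodule.span 𝔸 ({v} : Set V)) (fun v => ?_) ?_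
  swap
  · exact eq_top_iff.2 fun v _ => le_iSup (fun v : V => Submodule.span 𝔸 ({v} : Set V)) v
      (Submodule.mem_span_singleton_self v)
  set E := Submodule.span 𝔸 ({v} : Set V)
  have : FiniteDimensional k ↥(E.restrictScalars k) := finite_span_singleton A v
  let b := Module.finBasis k ↥(E.restrictScalars k)
  have hex : ∀ i, ∃ g : V →ₗ[k] k, g ∘ₗ (E.restrictScalars k).subtype = b.coord i := fun i =>
    LinearMap.exists_extend (b.coord i)
  choose g hg using hex
  let φ : E →ₗ[𝔸] (Fin (Module.finrank k ↥(E.restrictScalars k)) → D) :=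
    LinearMap.pi fun i => LinearMap.codRestrict D ((coeff (A := A) (g i)) ∘ₗ E.subtype)
      (fun x => h (coeff_mem_coeffSpace _ _))
  refine IsSemisimpleModule.of_injective φ ((injective_iff_map_eq_zero φ).2 fun x hx => ?_)
  let x' : ↥(E.restrictScalars k) := ⟨x, x.2⟩
  have hb : b.repr x' = 0 := Finsupp.ext fun i => by
    have h1 : coeff (A := A) (g i) (x : V) = 0 := congrArg Subtype.val (congrFun hx i)
    have h2 := counit_coeff (A := A) (g i) (x : V)
    rw [h1, map_zero] at h2
    exact (LinearMap.congr_fun (hg i) x').symm.trans h2.symm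
  have := b.repr.map_eq_zero_iff.1 hb
  exact Subtype.ext (congrArg Subtype.val this)

lemma isSemisimpleModule_of_self (h : IsSemisimpleModule 𝔸 A) : IsSemisimpleModule 𝔸 V :=
  isSemisimpleModule_of_coeffSpace_le (D := ⊤) le_top

/-- A simple subcoalgebra is semisimple as a module. -/
lemma isSemisimpleModule_simple_subcoalg {B : Submodule k A} (hB : IsSubcoalg B) (h0 : B ≠ ⊥)
    (hs : ∀ C : Submodule k A, C ≤ B → IsSubcoalg C → C = ⊥ ∨ C = B) :
    IsSemisimpleModule 𝔸 hB.sub := by
  have hne : hB.sub ≠ ⊥ := fun e => h0 (by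
    have := congrArg (Submodule.restrictScalars k) e
    rwa [Submodule.restrictScalars_bot] at this)
  obtain ⟨N, hN, _⟩ := exists_simple_le A hne
  have hle : isotypicComponent 𝔸 A N ≤ hB.sub := sSup_le fun m ⟨e⟩ => by
    have := le_of_hom hB hN e.symm.toLinearMap e.symm.surjective m.subtype
    rwa [Submodule.range_subtype] at this
  have hsub : IsSubcoalg ((isotypicComponent 𝔸 A N).restrictScalars k) :=
    isSubcoalg_restrictScalars fun g c hc =>
      (Submodule.IsFullyInvariant.isotypicComponent 𝔸 A N) (coeff (A := A) g) hc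
  rcases hs _ hle hsub with h | h
  · exact absurd ((Submodule.restrictScalars_eq_bot_iff k 𝔸 A).1 h)
      (bot_lt_isotypicComponent N).ne'
  · rw [show hB.sub = isotypicComponent 𝔸 A N from
      Submodule.restrictScalars_injective k 𝔸 A h.symm]
    infer_instance

omit [Coalgebra k A] in
lemma rTensor_lTensor_comm {X : Type*} [AddCommGroup X] [Module k X] {B : Type*} [AddCommGroup B]
    [Module k B] {Y : Type*} [AddCommGroup Y] [Module k Y] (f : X →ₗ[k] Y) (g : A →ₗ[k] B)
    (z : X ⊗[k] A) : f.rTensor B (g.lTensor X z) = g.lTensor Y (f.rTensor A z) := by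
  induction z with
  | zero => simp
  | tmul x a => simp
  | add x y hx hy => simp [hx, hy]

/-- The comodule structure on a subcomodule. -/
lemma exists_coact_sub {S : Submodule k V} (hS : IsSubcomod (k := k) (A := A) S) :
    ∃ c : S →ₗ[k] S ⊗[k] A, S.subtype.rTensor A ∘ₗ c =
      Comod.coact (k := k) (A := A) ∘ₗ S.subtype := by
  obtain ⟨π, hπ⟩ := LinearMap.exists_leftInverse_of_injective S.subtype S.ker_subtype
  refine ⟨π.rTensor A ∘ₗ Comod.coact (k := k) (A := A) ∘ₗ S.subtype, LinearMap.ext fun s => ?_⟩
  obtain ⟨y, hy⟩ := hS s s.2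
  simp only [LinearMap.comp_apply, Submodule.coe_subtype]
  rw [← hy, ← LinearMap.rTensor_comp_apply, ← LinearMap.rTensor_comp_apply, LinearMap.comp_assoc, hπ, LinearMap.comp_id]

/-- A subcomodule is a comodule. -/
@[reducible] def subComod {S : Submodule k V} (hS : IsSubcomod (k := k) (A := A) S) :
    Comod k A S where
  coact := (exists_coact_sub hS).choose
  coassoc := by
    have h := (exists_coact_sub hS).choose_spec
    set c := (exists_coact_sub hS).choose
    have hinj : Function.Injective (S.subtype.rTensor (A ⊗[k] A)) :=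
      Module.Flat.rTensor_preserves_injective_linearMap _ S.injective_subtype
    refine LinearMap.ext fun s => hinj ?_
    have key : ∀ y : (S ⊗[k] A) ⊗[k] A, S.subtype.rTensor (A ⊗[k] A)
        (TensorProduct.assoc k S A A y) =
          TensorProduct.assoc k V A A ((S.subtype.rTensor A).rTensor A y) := by
      intro y
      induction y with
      | zero => simp
      | tmul z a =>
        induction z with
        | zero => simp [TensorProduct.zero_tmul]
        | tmul x b => simp
        | add z z' hz hz' => simp only [add_tmul, map_add, hz, hz']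
      | add y y' hy hy' => simp [hy, hy']
    have hs : S.subtype.rTensor A (c s) = Comod.coact (k := k) (A := A) (s : V) :=
      LinearMap.congr_fun h s
    simp only [LinearMap.comp_apply, LinearEquiv.coe_coe]
    rw [key, ← LinearMap.rTensor_comp_apply A, h, LinearMap.rTensor_comp_apply, hs]
    rw [coassoc_apply, rTensor_lTensor_comm, hs]
  counit_comp := by
    have h := (exists_coact_sub hS).choose_spec
    set c := (exists_coact_sub hS).choose
    have hinj : Function.Injective (S.subtype.rTensor k) :=
      Module.Flat.rTensor_preserves_injective_linearMap _ S.injective_subtype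
    refine LinearMap.ext fun s => hinj ?_
    simp only [LinearMap.comp_apply]
    rw [rTensor_lTensor_comm,
      show S.subtype.rTensor A (c s) = Comod.coact (k := k) (A := A) (s : V) from
        LinearMap.congr_fun h s]
    exact LinearMap.congr_fun (Comod.counit_comp (k := k) (A := A) (V := V)) (s : V)

lemma subComod_smul_coe {S : Submodule k V} (hS : IsSubcomod (k := k) (A := A) S) (f : 𝔸) (s : S) :
    letI := subComod hS
    ((f • s : S) : V) = f • (s : V) := by
  let _ := subComod hS
  show S.subtype (slice f.ofConv (Comod.coact (k := k) (A := A) s)) = _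
  rw [← slice_rTensor]
  exact congrArg _ (LinearMap.congr_fun (exists_coact_sub hS).choose_spec s)

end ComodLib

end
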