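import Groth.Agent.ComodLib.Integral
import Groth.Agent.ComodLib.Semisimple
import Groth.Agent.ComodLib.HomRep
import Groth.Agent.S16471

/-! Linearly reductive groups: invariant functional, Reynolds operator, lifting criterion. -/

noncomputable section

open TensorProduct HopfRep WithConv

namespace ComodLib

universe u v w w'

section Coalg

variable {k : Type u} [Field k] {A : Type v} [AddCommGroup A] [Module k A] [Coalgebra k A]
  {V : Type w} [AddCommGroup V] [Module k V] [Comod k A V]

local notation "𝔸" => Dual' k A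

/-- A semisimple subcomodule gives a semisimple submodule. -/
lemma isSemisimpleModule_toSub {S : Submodule k V} (hS : IsSubcomod (k := k) (A := A) S)
    (h : letI := subComod hS; IsSemisimpleComod k A S) :
    IsSemisimpleModule 𝔸 (toSub S hS) := by
  let _ := subComod hS
  have hm : IsSemisimpleModule 𝔸 S := isSemisimpleComod_iff.1 h
  let e : toSub S hS ≃ₗ[𝔸] S :=
    { toFun := fun x => ⟨x.1, x.2⟩
      invFun := fun x => ⟨x.1, x.2⟩
      left_inv := fun _ => rfl
      right_inv := fun _ => rfl
      map_add' := fun _ _ => rfl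
      map_smul' := fun f x => Subtype.ext (subComod_smul_coe hS f ⟨x.1, x.2⟩).symm }
  exact IsSemisimpleModule.congr e

/-- If the finite-dimensional comodules are semisimple then so are all comodules. -/
lemma isSemisimpleComod_of_forall_finite
    (h : ∀ (U : Type v) [AddCommGroup U] [Module k U] [Comod k A U],
      Module.Finite k U → IsSemisimpleComod k A U) :
    IsSemisimpleComod k A V := by
  rw [isSemisimpleComod_iff]
  refine isSemisimpleModule_of_self ?_
  refine isSemisimpleModule_of_isSemisimpleModule_submodule'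
    (p := fun a : A => Submodule.span 𝔸 ({a} : Set A)) (fun a => ?_) ?_
  swap
  · exact eq_top_iff.2 fun a _ => le_iSup (fun a : A => Submodule.span 𝔸 ({a} : Set A)) a
      (Submodule.mem_span_singleton_self a)
  set E := Submodule.span 𝔸 ({a} : Set A)
  have hS := isSubcomod_restrictScalars E
  have : FiniteDimensional k ↥(E.restrictScalars k) := finite_span_singleton A a
  let _ := subComod hS
  exact isSemisimpleModule_toSub hS (h ↥(E.restrictScalars k) this)

lemma isSubcomod_ker_of_hom {W : Type w'} [AddCommGroup W] [Module k W] [Comod k A W]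
    {φ : V →ₗ[k] W} (h : Hoch.IsComodHom A φ) :
    IsSubcomod (k := k) (A := A) (LinearMap.ker φ) := by
  rw [isSubcomod_iff]
  intro f v hv
  rw [LinearMap.mem_ker] at hv ⊢
  rw [(isComodHom_iff φ).1 h f v, hv, smul_zero]

lemma isSubcomod_comap_of_hom {W : Type w'} [AddCommGroup W] [Module k W] [Comod k A W]
    {φ : V →ₗ[k] W} (h : Hoch.IsComodHom A φ) {T : Submodule k W}
    (hT : IsSubcomod (k := k) (A := A) T) :
    IsSubcomod (k := k) (A := A) (T.comap φ) := by
  rw [isSubcomod_iff] at hT ⊢
  intro f v hv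
  rw [Submodule.mem_comap] at hv ⊢
  rw [(isComodHom_iff φ).1 h f v]
  exact hT f _ hv

lemma isComodHom_subtype {S : Submodule k V} (hS : IsSubcomod (k := k) (A := A) S) :
    @Hoch.IsComodHom k _ A _ _ _ S _ _ (subComod hS) V _ _ inferInstance S.subtype :=
  (exists_coact_sub hS).choose_spec.symm

variable (V) in
/-- The coefficient space of a finite-dimensional comodule is finite-dimensional. -/
lemma finite_coeffSpace [FiniteDimensional k V] :
    FiniteDimensional k ↥((coeffSpace A k V).restrictScalars k) := by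
  let φ : Module.Dual k V ⊗[k] V →ₗ[k] A := TensorProduct.lift
    { toFun := fun g => sliceL g ∘ₗ Comod.coact (k := k) (A := A)
      map_add' := fun g g' => LinearMap.ext fun v => by
        simp only [sliceL, LinearMap.comp_apply, LinearMap.add_apply, LinearMap.rTensor_add, map_add]
      map_smul' := fun c g => LinearMap.ext fun v => by
        simp only [sliceL, LinearMap.comp_apply, LinearMap.smul_apply, LinearMap.rTensor_smul,
          RingHom.id_apply, map_smul] }
  refine Submodule.finiteDimensional_of_le (S₂ := LinearMap.range φ) ?_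
  rw [coeffSpace, Submodule.restrictScalars_iSup, iSup_le_iff]
  rintro g _ ⟨v, rfl⟩
  exact ⟨g ⊗ₜ[k] v, rfl⟩

end Coalg

section Hopf

variable {k : Type u} [Field k] {A : Type v} [Ring A] [HopfAlgebra k A]
  {V : Type w} [AddCommGroup V] [Module k V] [Comod k A V]

local notation "𝔸" => Dual' k A

/-- The regular comodule semisimple gives a normalised invariant functional. -/
lemma exists_invariant (h : IsSemisimpleComod k A A) :
    ∃ α : A →ₗ[k] k, IsInvariant α ∧ α 1 = 1 := by
  rw [isSemisimpleComod_iff] at h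
  have hL : IsSubcomod (k := k) (A := A) (Submodule.span k ({1} : Set A)) := by
    intro a ha
    obtain ⟨c, rfl⟩ := Submodule.mem_span_singleton.1 ha
    refine ⟨⟨c • 1, Submodule.smul_mem _ _ (Submodule.mem_span_singleton_self 1)⟩ ⊗ₜ[k] 1, ?_⟩
    show (c • (1 : A)) ⊗ₜ[k] (1 : A) = CoalgebraStruct.comul (R := k) (c • (1 : A))
    rw [map_smul, Bialgebra.comul_one, Algebra.TensorProduct.one_def, TensorProduct.smul_tmul']
  obtain ⟨N, hN⟩ := h.exists_isCompl (toSub _ hL)
  let q : A →ₗ[𝔸] A := (toSub _ hL).subtype ∘ₗ Submodule.linearProjOfIsCompl _ _ hN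
  let α : A →ₗ[k] k := CoalgebraStruct.counit (R := k) (A := A) ∘ₗ q.restrictScalars k
  have hq : ∀ x, q x = α x • (1 : A) := by
    intro x
    obtain ⟨c, hc⟩ := Submodule.mem_span_singleton.1
      (show q x ∈ Submodule.span k ({1} : Set A) from
        (Submodule.linearProjOfIsCompl _ _ hN x).2)
    simp [α, ← hc, Bialgebra.counit_one]
  refine ⟨α, fun x => ?_, ?_⟩
  · rw [← hq, ← LinearMap.congr_fun (exists_coeff_of_hom q) x]
    rfl
  · have h1 : q 1 = 1 := congrArg Subtype.val
      (Submodule.linearProjOfIsCompl_apply_left hN ⟨1, Submodule.mem_span_singleton_self 1⟩)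
    simp [α, h1, Bialgebra.counit_one]

variable {α : A →ₗ[k] k}

lemma slice_comul_antipode (hα : IsInvariant α) (b : A) :
    slice (α ∘ₗ HopfAlgebra.antipode k) (CoalgebraStruct.comul (R := k) b) =
      α (HopfAlgebra.antipode k b) • (1 : A) := by
  have h := key_identity hα 1 b
  rwa [LinearMap.mulRight_one, LinearMap.id_comp, Bialgebra.comul_one, Algebra.TensorProduct.one_def,
    sliceL_tmul, LinearMap.comp_apply, LinearMap.mulLeft_apply, mul_one] at h

variable (V) in
/-- The Reynolds operator of an invariant functional. -/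
def reynolds (α : A →ₗ[k] k) : V →ₗ[k] V :=
  slice (α ∘ₗ HopfAlgebra.antipode k) ∘ₗ Comod.coact (k := k) (A := A)

lemma reynolds_mem (hα : IsInvariant α) (v : V) : reynolds V α v ∈ fixedPts k A V := by
  show Comod.coact (k := k) (A := A) (reynolds V α v) = reynolds V α v ⊗ₜ[k] (1 : A)
  simp only [reynolds, LinearMap.comp_apply]
  rw [← slice_rTensor, ← LinearEquiv.symm_apply_apply (TensorProduct.assoc k V A A)
      ((Comod.coact (k := k) (A := A)).rTensor A _), coassoc_apply, slice_assoc_symm]
  generalize Comod.coact (k := k) (A := A) v = z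
  induction z with
  | zero => simp [TensorProduct.zero_tmul]
  | tmul x b =>
    simp [slice_comul_antipode hα, TensorProduct.smul_tmul', TensorProduct.tmul_smul]
  | add z z' hz hz' => simp only [map_add, hz, hz', add_tmul]

lemma reynolds_fixed (h1 : α 1 = 1) {v : V} (hv : v ∈ fixedPts k A V) : reynolds V α v = v := by
  simp only [reynolds, LinearMap.comp_apply, show Comod.coact (k := k) (A := A) v = v ⊗ₜ[k] 1 from hv,
    slice_tmul, HopfAlgebra.antipode_one, h1, one_smul]

lemma reynolds_natural {W : Type w'} [AddCommGroup W] [Module k W] [Comod k A W]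
    (α : A →ₗ[k] k) {φ : V →ₗ[k] W} (h : Hoch.IsComodHom A φ) (v : V) :
    φ (reynolds V α v) = reynolds W α (φ v) := by
  simp only [reynolds, LinearMap.comp_apply]
  rw [← slice_rTensor]
  exact congrArg _ (LinearMap.congr_fun h v).symm

lemma exists_fixed_lift {W : Type w'} [AddCommGroup W] [Module k W] [Comod k A W]
    (hα : IsInvariant α) (h1 : α 1 = 1) {φ : V →ₗ[k] W} (h : Hoch.IsComodHom A φ)
    (hs : Function.Surjective φ) {w : W} (hw : w ∈ fixedPts k A W) :
    ∃ v ∈ fixedPts k A V, φ v = w := by
  obtain ⟨v, rfl⟩ := hs w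
  exact ⟨reynolds V α v, reynolds_mem hα v,
    (reynolds_natural α h v).trans (reynolds_fixed h1 hw)⟩

end Hopf

section Classes

variable {k : Type u} [Field k] {A : Type v} [CommRing A] [HopfAlgebra k A]

lemma exists_invariant_of_isLinearlyReductive (h : IsLinearlyReductive k A) :
    ∃ α : A →ₗ[k] k, IsInvariant α ∧ α 1 = 1 :=
  exists_invariant (isSemisimpleComod_of_forall_finite h)

lemma isLinearlyReductive_of_invariant {α : A →ₗ[k] k} (hα : IsInvariant α) (h1 : α 1 = 1) :
    IsLinearlyReductive k A :=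
  fun _ _ _ _ _ => isSemisimpleComod_of_invariant hα h1

lemma isComodHom_ofEquiv {V : Type w} [AddCommGroup V] [Module k V] (cV : Comod k A V)
    {W : Type w} [AddCommGroup W] [Module k W] (cW : Comod k A W)
    {V' : Type w'} [AddCommGroup V'] [Module k V'] (eV : V ≃ₗ[k] V')
    {W' : Type w'} [AddCommGroup W'] [Module k W'] (eW : W ≃ₗ[k] W')
    (φ : V →ₗ[k] W) (h : @Hoch.IsComodHom k _ A _ _ _ V _ _ cV W _ _ cW φ) :
    @Hoch.IsComodHom k _ A _ _ _ V' _ _ (ComodTens.Comod.ofEquiv eV cV) W' _ _
      (ComodTens.Comod.ofEquiv eW cW) (eW.toLinearMap ∘ₗ φ ∘ₗ eV.symm.toLinearMap) := by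
  refine LinearMap.ext fun x => ?_
  simp only [LinearMap.comp_apply, LinearEquiv.coe_coe]
  rw [ComodTens.ofEquiv_coact_apply, ComodTens.ofEquiv_coact]
  rw [show cW.coact (φ (eV.symm x)) = φ.rTensor A (cV.coact (eV.symm x)) from
    LinearMap.congr_fun h _]
  simp only [← LinearMap.rTensor_comp_apply, LinearMap.comp_assoc]
  rw [LinearEquiv.symm_comp, LinearMap.comp_id]

lemma mem_fixedPts_ofEquiv {V : Type w} [AddCommGroup V] [Module k V] (cV : Comod k A V)
    {V' : Type w'} [AddCommGroup V'] [Module k V'] (e : V ≃ₗ[k] V') (x : V) :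
    e x ∈ @fixedPts k A _ _ _ V' _ _ (ComodTens.Comod.ofEquiv e cV) ↔
      x ∈ @fixedPts k A _ _ _ V _ _ cV := by
  show (ComodTens.Comod.ofEquiv e cV).coact (e x) = e x ⊗ₜ[k] (1 : A) ↔
    cV.coact x = x ⊗ₜ[k] (1 : A)
  rw [ComodTens.ofEquiv_coact_apply]
  exact (TensorProduct.congr e (LinearEquiv.refl k A)).injective.eq_iff' (by simp)

/-- The lifting property of fixed vectors gives linear reductivity. -/
theorem isLinearlyReductive_of_lift
    (h : ∀ (V W : Type v) [AddCommGroup V] [Module k V] [Comod k A V] [AddCommGroup W] [Module k W]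
      [Comod k A W] [Module.Finite k V] [Module.Finite k W] (φ : V →ₗ[k] W),
      Hoch.IsComodHom A φ → Function.Surjective φ →
      ∀ w ∈ fixedPts k A W, ∃ v ∈ fixedPts k A V, φ v = w) :
    IsLinearlyReductive k A := by
  intro U _ _ cU hU S hS
  let cS := subComod hS
  have hι : @Hoch.IsComodHom k _ A _ _ _ S _ _ cS U _ _ cU S.subtype := isComodHom_subtype hS
  obtain ⟨dU, hdU⟩ := Groth.Agent.S16471.result k A U cU
  obtain ⟨dS, hdS⟩ := Groth.Agent.S16471.result k A S cS
  let cE := ComodTens.Comod.tensor cS dU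
  let cF := ComodTens.Comod.tensor cS dS
  let φ : S ⊗[k] Module.Dual k U →ₗ[k] S ⊗[k] Module.Dual k S := S.subtype.dualMap.lTensor S
  have hBres : ∀ x, homB (φ x) = homB x ∘ₗ S.subtype := by
    intro x
    induction x with
    | zero => simp
    | tmul b f => ext; simp [φ, homB]
    | add x y hx hy => simp only [map_add, hx, hy, LinearMap.add_comp]
  have hAres : ∀ y, homA (φ.rTensor A y) = homA y ∘ₗ S.subtype := by
    intro y
    induction y with
    | zero => simp
    | tmul x a =>
      induction x with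
      | zero => simp [TensorProduct.zero_tmul]
      | tmul b f => ext; simp [φ, homA]
      | add x x' hx hx' => simp only [add_tmul, map_add, hx, hx', LinearMap.add_comp]
    | add x y hx hy => simp only [map_add, hx, hy, LinearMap.add_comp]
  have hφ : @Hoch.IsComodHom k _ A _ _ _ _ _ _ cE _ _ _ cF φ := by
    refine LinearMap.ext fun x => homA_injective ?_
    rw [LinearMap.comp_apply, LinearMap.comp_apply, homA_coact cS cS dS hdS, hBres, hAres,
      homA_coact cU cS dU hdU]
    refine LinearMap.ext fun s => ?_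
    simp only [tw, LinearMap.comp_apply]
    rw [show cU.coact (S.subtype s) = S.subtype.rTensor A (cS.coact s) from
      LinearMap.congr_fun hι s]
    generalize cS.coact s = z
    induction z with
    | zero => simp
    | tmul t a => simp
    | add z z' hz hz' => simp only [map_add, hz, hz']
  let eU : (S ⊗[k] Module.Dual k U) ≃ₗ[k] S ⊗[k] U :=
    TensorProduct.congr (LinearEquiv.refl k S) (Module.finBasis k U).toDualEquiv.symm
  let eS : (S ⊗[k] Module.Dual k S) ≃ₗ[k] S ⊗[k] S :=
    TensorProduct.congr (LinearEquiv.refl k S) (Module.finBasis k S).toDualEquiv.symm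
  have hsurj : Function.Surjective φ :=
    LinearMap.lTensor_surjective S (LinearMap.dualMap_surjective_of_injective S.injective_subtype)
  obtain ⟨x₀, hx₀⟩ := (dualTensorHom_bijective (R := k) (M := S) (N := S)).2 LinearMap.id
  let y₀ := (TensorProduct.comm k S (Module.Dual k S)).symm x₀
  have hy₀ : homB y₀ = LinearMap.id := by simp [homB, y₀, hx₀]
  have hy₀f : y₀ ∈ @fixedPts k A _ _ _ _ _ _ cF := by
    rw [mem_fixedPts_iff_isComodHom cS cS dS hdS, hy₀]
    show cS.coact ∘ₗ _ = _
    simp
  obtain ⟨v, hv, hve⟩ := @h (S ⊗[k] U) (S ⊗[k] S) _ _ (ComodTens.Comod.ofEquiv eU cE) _ _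
    (ComodTens.Comod.ofEquiv eS cF) _ _ (eS.toLinearMap ∘ₗ φ ∘ₗ eU.symm.toLinearMap)
    (isComodHom_ofEquiv cE cF eU eS φ hφ) (eS.surjective.comp (hsurj.comp eU.symm.surjective))
    (eS y₀) ((mem_fixedPts_ofEquiv cF eS y₀).2 hy₀f)
  obtain ⟨x, rfl⟩ := eU.surjective v
  simp only [LinearMap.comp_apply, LinearEquiv.coe_coe, LinearEquiv.symm_apply_apply,
    EmbeddingLike.apply_eq_iff_eq] at hve
  rw [mem_fixedPts_ofEquiv, mem_fixedPts_iff_isComodHom cU cS dU hdU] at hv
  have hp : ∀ s : S, homB x s = s := fun s => by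
    have := LinearMap.congr_fun ((hBres x).symm.trans ((congrArg homB hve).trans hy₀)) s
    exact this
  exact ⟨LinearMap.ker (homB x), @isSubcomod_ker_of_hom k _ A _ _ _ U _ _ cU S _ _ cS _ hv,
    LinearMap.isCompl_of_proj hp⟩

end Classes

end ComodLib

end
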