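import Groth.Agent.ComodLib.Dual
import Mathlib.RingTheory.SimpleModule.Isotypic
import Mathlib.RingTheory.Artinian.Module

/-! Coefficient spaces and subcoalgebras. -/

noncomputable section

open TensorProduct HopfRep WithConv

namespace ComodLib

universe u v w w'

variable {k : Type u} [Field k] {A : Type v} [AddCommGroup A] [Module k A] [Coalgebra k A]
  {V : Type w} [AddCommGroup V] [Module k V] [Comod k A V]

local notation "𝔸" => Dual' k A
local notation "Δ" => CoalgebraStruct.comul (R := k) (A := A)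

/-- A subspace of a coalgebra is a subcoalgebra. -/
def IsSubcoalg (B : Submodule k A) : Prop :=
  ∀ b ∈ B, Δ b ∈ LinearMap.range (TensorProduct.map B.subtype B.subtype)

/-- Stable under the left and the right action. -/
lemma isSubcoalg_iff (B : Submodule k A) :
    IsSubcoalg B ↔ IsSubcomod (k := k) (A := A) B ∧
      ∀ g : A →ₗ[k] k, ∀ b ∈ B, coeff (A := A) g b ∈ B := by
  simp only [IsSubcoalg, IsSubcomod, mem_range_map_iff, mem_range_lTensor_iff]
  exact ⟨fun h => ⟨fun b hb => (h b hb).1, fun g b hb => (h b hb).2 g⟩,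
    fun h b hb => ⟨h.1 b hb, fun g => h.2 g b hb⟩⟩

/-- A subcoalgebra as a submodule over the convolution algebra. -/
def IsSubcoalg.sub {B : Submodule k A} (h : IsSubcoalg B) : Submodule 𝔸 A :=
  toSub B ((isSubcoalg_iff B).1 h).1

@[simp] lemma IsSubcoalg.mem_sub {B : Submodule k A} (h : IsSubcoalg B) (a : A) :
    a ∈ h.sub ↔ a ∈ B := Iff.rfl

lemma isSubcoalg_restrictScalars {C : Submodule 𝔸 A}
    (h : ∀ g : A →ₗ[k] k, ∀ c ∈ C, coeff (A := A) g c ∈ C) :
    IsSubcoalg (C.restrictScalars k) :=
  (isSubcoalg_iff _).2 ⟨isSubcomod_restrictScalars C, h⟩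

lemma coeff_counit (a : A) : coeff (A := A) (CoalgebraStruct.counit (R := k)) a = a := by
  rw [coeff_apply, sliceL, LinearMap.comp_apply]
  show TensorProduct.lid k A (LinearMap.rTensor A _ (Δ a)) = a
  rw [Coalgebra.rTensor_counit_comul]
  simp

lemma counit_smul (f : 𝔸) (a : A) : CoalgebraStruct.counit (R := k) (f • a) = f a := by
  rw [smul_eq, apply_slice]
  exact congrArg f.ofConv (coeff_counit a)

/-- A submodule isomorphic to, or a quotient of, a submodule of a subcoalgebra is contained
in it. -/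
lemma le_of_hom {B : Submodule k A} (hB : IsSubcoalg B) {N : Submodule 𝔸 A} (hN : N ≤ hB.sub)
    {X : Type w} [AddCommGroup X] [Module 𝔸 X] (p : N →ₗ[𝔸] X) (hp : Function.Surjective p)
    (ψ : X →ₗ[𝔸] A) : LinearMap.range ψ ≤ hB.sub := by
  rintro _ ⟨x, rfl⟩
  rw [hB.mem_sub]
  by_contra hx
  obtain ⟨f, hf, hfB⟩ := Submodule.exists_dual_map_eq_bot_of_notMem hx inferInstance
  obtain ⟨n, rfl⟩ := hp x
  have hzero : (toConv f : 𝔸) • (n : A) = 0 := by
    have h1 : Δ (n : A) ∈ LinearMap.range (B.subtype.lTensor A) :=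
      ((mem_range_map_iff B _).1 (hB n (hN n.2))).2
    obtain ⟨y, hy⟩ := h1
    rw [smul_eq]
    show slice f (Δ (n : A)) = 0
    rw [← hy, slice_lTensor, show f ∘ₗ B.subtype = 0 from LinearMap.ext fun b => by
      have := Submodule.eq_bot_iff _ |>.1 hfB (f b) ⟨b, b.2, rfl⟩
      simpa using this, slice_zero]
  apply hf
  have h2 := counit_smul (toConv f : 𝔸) (ψ (p n))
  rw [← map_smul, ← map_smul, show (toConv f : 𝔸) • n = 0 from Subtype.ext hzero, map_zero,
    map_zero, map_zero] at h2
  exact h2.symm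

variable (A) in
/-- The coefficient space of a comodule. -/
def coeffSpace (k : Type u) [Field k] [Module k A] [Coalgebra k A] (V : Type w) [AddCommGroup V]
    [Module k V] [Comod k A V] : Submodule (Dual' k A) A :=
  ⨆ g : V →ₗ[k] k, LinearMap.range (coeff (A := A) g)

lemma range_le_coeffSpace (ψ : V →ₗ[𝔸] A) : LinearMap.range ψ ≤ coeffSpace A k V := by
  rw [← exists_coeff_of_hom ψ]
  exact le_iSup (fun g : V →ₗ[k] k => LinearMap.range (coeff (A := A) g)) _

lemma coeff_mem_coeffSpace (g : V →ₗ[k] k) (v : V) : coeff (A := A) g v ∈ coeffSpace A k V :=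
  range_le_coeffSpace _ ⟨v, rfl⟩

lemma coact_mem_coeffSpace_iff (D : Submodule k A) :
    (∀ e : V, Comod.coact (k := k) (A := A) e ∈ LinearMap.range (D.subtype.lTensor V)) ↔
      (coeffSpace A k V).restrictScalars k ≤ D := by
  simp only [mem_range_lTensor_iff]
  constructor
  · intro h
    rw [coeffSpace, Submodule.restrictScalars_iSup, iSup_le_iff]
    rintro g _ ⟨v, rfl⟩
    exact h v g
  · exact fun h v g => h (coeff_mem_coeffSpace g v)

lemma isLeast_eq {D : Submodule k A}
    (hD : IsLeast {D' : Submodule k A |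
      ∀ e : V, Comod.coact (k := k) (A := A) e ∈ LinearMap.range (LinearMap.lTensor V D'.subtype)}
      D) : D = (coeffSpace A k V).restrictScalars k :=
  le_antisymm (hD.2 ((coact_mem_coeffSpace_iff _).2 le_rfl)) ((coact_mem_coeffSpace_iff D).1 hD.1)

lemma isSubcoalg_coeffSpace : IsSubcoalg ((coeffSpace A k V).restrictScalars k) := by
  refine isSubcoalg_restrictScalars fun g c hc => ?_
  have h : (coeffSpace A k V).map (coeff (A := A) g) ≤ coeffSpace A k V := by
    conv_lhs => rw [coeffSpace, Submodule.map_iSup]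
    refine iSup_le fun h => ?_
    rw [← LinearMap.range_comp]
    exact range_le_coeffSpace _
  exact h ⟨c, hc, rfl⟩

lemma coeffSpace_ne_bot [Nontrivial V] : coeffSpace A k V ≠ ⊥ := by
  intro h
  obtain ⟨v, hv⟩ := exists_ne (0 : V)
  obtain ⟨g, hg⟩ := exists_dual_ne (k := k) hv
  have h1 := coeff_mem_coeffSpace (A := A) g v
  rw [h, Submodule.mem_bot] at h1
  exact hg (by rw [← counit_coeff (A := A) g v, h1, map_zero])

variable [IsSimpleModule (Dual' k A) V]

lemma coeffSpace_eq_isotypicComponent : coeffSpace A k V = isotypicComponent 𝔸 A V := by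
  refine le_antisymm (iSup_le fun g => ?_) (sSup_le fun m hm => ?_)
  · by_cases h : coeff (A := A) g = 0
    · rw [h, LinearMap.range_zero]; exact bot_le
    · exact le_sSup ⟨(LinearEquiv.ofInjective _
        ((LinearMap.injective_or_eq_zero (coeff (A := A) g)).resolve_right h)).symm⟩
  · obtain ⟨e⟩ := hm
    refine le_trans ?_ (range_le_coeffSpace (m.subtype ∘ₗ e.symm.toLinearMap))
    rw [LinearMap.range_comp_of_range_eq_top _ e.symm.range, Submodule.range_subtype]

instance : IsSemisimpleModule 𝔸 (coeffSpace A k V) := by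
  rw [coeffSpace_eq_isotypicComponent]; infer_instance

/-- A simple submodule of the coefficient space of a simple comodule is isomorphic to it. -/
lemma nonempty_equiv_of_le (m : Submodule 𝔸 A) [IsSimpleModule 𝔸 m]
    (hm : m ≤ coeffSpace A k V) : Nonempty (m ≃ₗ[𝔸] V) :=
  isIsotypicOfType_submodule_iff.1 (IsIsotypicOfType.isotypicComponent 𝔸 A (S := V)) m
    ((coeffSpace_eq_isotypicComponent (k := k) (A := A) (V := V)) ▸ hm)

/-- The coefficient space of a simple comodule is a simple subcoalgebra. -/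
lemma eq_bot_or_eq_of_le_coeffSpace {B : Submodule k A}
    (hle : B ≤ (coeffSpace A k V).restrictScalars k) (hB : IsSubcoalg B) :
    B = ⊥ ∨ B = (coeffSpace A k V).restrictScalars k := by
  have hle' : hB.sub ≤ coeffSpace A k V := hle
  have : IsSemisimpleModule 𝔸 hB.sub :=
    IsSemisimpleModule.of_injective (Submodule.inclusion hle') (Submodule.inclusion_injective hle')
  rcases IsSemisimpleModule.eq_bot_or_exists_simple_le hB.sub with h | ⟨N, hN, hNs⟩
  · left
    have := congrArg (Submodule.restrictScalars k) h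
    rwa [Submodule.restrictScalars_bot] at this
  · right
    refine le_antisymm hle (iSup_le (fun g => ?_) : coeffSpace A k V ≤ hB.sub)
    obtain ⟨e⟩ := nonempty_equiv_of_le N (hN.trans hle')
    exact le_of_hom hB hN e.toLinearMap e.surjective _

omit [IsSimpleModule 𝔸 V] in
variable (A) in
/-- A nonzero submodule contains a simple submodule. -/
lemma exists_simple_le {S : Submodule 𝔸 V} (h : S ≠ ⊥) :
    ∃ N ≤ S, IsSimpleModule 𝔸 N := by
  obtain ⟨v, hv, hv0⟩ := S.exists_mem_ne_zero_of_ne_bot h
  have hfin : FiniteDimensional k (Submodule.span 𝔸 ({v} : Set V)) := finite_span_singleton A v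
  have hart : IsArtinian k (Submodule.span 𝔸 ({v} : Set V)) := by
    have : FiniteDimensional k ↥((Submodule.span 𝔸 ({v} : Set V)).restrictScalars k) := hfin
    exact isArtinian_of_linearEquiv ((Submodule.restrictScalarsEquiv k 𝔸 V _).restrictScalars k)
  have : IsArtinian 𝔸 (Submodule.span 𝔸 ({v} : Set V)) := isArtinian_of_tower k hart
  have hne : Submodule.span 𝔸 ({v} : Set V) ≠ ⊥ := by
    rw [Ne, Submodule.span_singleton_eq_bot]; exact hv0
  have : Nontrivial (Submodule.span 𝔸 ({v} : Set V)) := Submodule.nontrivial_iff_ne_bot.2 hne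
  obtain ⟨N, hN⟩ := IsAtomic.exists_atom (Submodule 𝔸 ↥(Submodule.span 𝔸 ({v} : Set V)))
  refine ⟨N.map (Submodule.subtype _), ?_, ?_⟩
  · exact (Submodule.map_subtype_le _ _).trans (by rwa [Submodule.span_singleton_le_iff_mem])
  · have : IsSimpleModule 𝔸 N := isSimpleModule_iff_isAtom.2 hN
    exact (LinearEquiv.isSimpleModule_iff (M := ↥N)
      (Submodule.equivMapOfInjective _ (Submodule.injective_subtype _) N)).1 this

end ComodLib

end
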