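import Mathlib.LinearAlgebra.DirectSum.Finsupp
import Mathlib.LinearAlgebra.Basis.VectorSpace
import Mathlib.RingTheory.Flat.Basic
import Mathlib.LinearAlgebra.TensorProduct.RightExactness
import Mathlib.LinearAlgebra.Dual.Lemmas

/-! Slices of tensors by linear functionals. -/

noncomputable section

open TensorProduct

namespace ComodLib

universe u v w w'

section CommRing

variable {k : Type u} [CommRing k] {V : Type w} [AddCommGroup V] [Module k V]
  {W : Type w'} [AddCommGroup W] [Module k W] {A : Type v} [AddCommGroup A] [Module k A]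

/-- Contract the right factor of a tensor with a functional. -/
def slice (f : A →ₗ[k] k) : V ⊗[k] A →ₗ[k] V :=
  (TensorProduct.rid k V).toLinearMap ∘ₗ f.lTensor V

/-- Contract the left factor of a tensor with a functional. -/
def sliceL (g : V →ₗ[k] k) : V ⊗[k] A →ₗ[k] A :=
  (TensorProduct.lid k A).toLinearMap ∘ₗ g.rTensor A

@[simp] lemma slice_tmul (f : A →ₗ[k] k) (v : V) (a : A) : slice f (v ⊗ₜ[k] a) = f a • v := by
  simp [slice]

@[simp] lemma sliceL_tmul (g : V →ₗ[k] k) (v : V) (a : A) : sliceL g (v ⊗ₜ[k] a) = g v • a := by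
  simp [sliceL]

lemma slice_rTensor (f : A →ₗ[k] k) (φ : V →ₗ[k] W) (x : V ⊗[k] A) :
    slice f (φ.rTensor A x) = φ (slice f x) := by
  induction x with
  | zero => simp
  | tmul v a => simp
  | add x y hx hy => simp [hx, hy]

lemma slice_lTensor {B : Type*} [AddCommGroup B] [Module k B] (f : B →ₗ[k] k) (φ : A →ₗ[k] B)
    (x : V ⊗[k] A) : slice f (φ.lTensor V x) = slice (f ∘ₗ φ) x := by
  induction x with
  | zero => simp
  | tmul v a => simp
  | add x y hx hy => simp [hx, hy]

lemma sliceL_lTensor {B : Type*} [AddCommGroup B] [Module k B] (g : V →ₗ[k] k) (φ : A →ₗ[k] B)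
    (x : V ⊗[k] A) : sliceL g (φ.lTensor V x) = φ (sliceL g x) := by
  induction x with
  | zero => simp
  | tmul v a => simp
  | add x y hx hy => simp [hx, hy]

lemma sliceL_rTensor (g : W →ₗ[k] k) (φ : V →ₗ[k] W) (x : V ⊗[k] A) :
    sliceL g (φ.rTensor A x) = sliceL (g ∘ₗ φ) x := by
  induction x with
  | zero => simp
  | tmul v a => simp
  | add x y hx hy => simp [hx, hy]

lemma apply_slice (g : V →ₗ[k] k) (f : A →ₗ[k] k) (x : V ⊗[k] A) :
    g (slice f x) = f (sliceL g x) := by
  induction x with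
  | zero => simp
  | tmul v a => simp [mul_comm]
  | add x y hx hy => simp [hx, hy]

lemma slice_add (f f' : A →ₗ[k] k) (x : V ⊗[k] A) : slice (f + f') x = slice f x + slice f' x := by
  simp [slice, LinearMap.lTensor_add]

lemma slice_smul (c : k) (f : A →ₗ[k] k) (x : V ⊗[k] A) : slice (c • f) x = c • slice f x := by
  simp [slice, LinearMap.lTensor_smul]

lemma slice_zero (x : V ⊗[k] A) : slice (0 : A →ₗ[k] k) x = 0 := by simp [slice]

lemma slice_mem_of_mem_range (W₀ : Submodule k V) (f : A →ₗ[k] k) {x : V ⊗[k] A}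
    (hx : x ∈ LinearMap.range (W₀.subtype.rTensor A)) : slice f x ∈ W₀ := by
  obtain ⟨y, rfl⟩ := hx
  rw [slice_rTensor]
  exact Subtype.coe_prop _

lemma sliceL_mem_of_mem_range (D : Submodule k A) (g : V →ₗ[k] k) {x : V ⊗[k] A}
    (hx : x ∈ LinearMap.range (D.subtype.lTensor V)) : sliceL g x ∈ D := by
  obtain ⟨y, rfl⟩ := hx
  rw [sliceL_lTensor]
  exact Subtype.coe_prop _

end CommRing

variable {k : Type u} [Field k] {V : Type w} [AddCommGroup V] [Module k V]
  {A : Type v} [AddCommGroup A] [Module k A]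

lemma exists_expansion (x : V ⊗[k] A) :
    ∃ (s : Finset (Module.Basis.ofVectorSpaceIndex k A)), x = ∑ i ∈ s,
      slice ((Module.Basis.ofVectorSpace k A).coord i) x ⊗ₜ[k] Module.Basis.ofVectorSpace k A i := by
  classical
  set b := Module.Basis.ofVectorSpace k A
  let e := (TensorProduct.congr (LinearEquiv.refl k V) b.repr).trans
    (TensorProduct.finsuppScalarRight k k V _)
  have he : ∀ (x : V ⊗[k] A) i, e x i = slice (b.coord i) x := by
    intro x i
    induction x with
    | zero => simp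
    | tmul v a => simp [e, TensorProduct.finsuppScalarRight_apply_tmul_apply]
    | add x y hx hy => simp [hx, hy]
  refine ⟨(e x).support, e.injective (Finsupp.ext fun j => ?_)⟩
  rw [map_sum, Finsupp.coe_finsetSum, Finset.sum_apply]
  simp only [he, slice_tmul, Module.Basis.coord_apply, b.repr_self, Finsupp.single_apply, ite_smul,
    one_smul, zero_smul, Finset.sum_ite_eq']
  split
  · rfl
  next h => rw [← he]; exact Finsupp.notMem_support_iff.1 h

lemma ext_slice {x y : V ⊗[k] A} (h : ∀ f : A →ₗ[k] k, slice f x = slice f y) : x = y := by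
  rw [← sub_eq_zero]
  obtain ⟨s, hs⟩ := exists_expansion (x - y)
  rw [hs]
  exact Finset.sum_eq_zero fun i _ => by rw [map_sub, h, sub_self, TensorProduct.zero_tmul]

lemma exists_dual_ne {v : V} (hv : v ≠ 0) : ∃ g : V →ₗ[k] k, g v ≠ 0 :=
  Module.Projective.exists_dual_ne_zero k hv

lemma ext_sliceL {x y : V ⊗[k] A} (h : ∀ g : V →ₗ[k] k, sliceL g x = sliceL g y) : x = y := by
  refine ext_slice fun f => ?_
  rw [← sub_eq_zero]
  by_contra hne
  obtain ⟨g, hg⟩ := exists_dual_ne (k := k) hne
  rw [map_sub, apply_slice, apply_slice, h, sub_self] at hg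
  exact hg rfl

lemma mem_range_rTensor_iff (W : Submodule k V) (x : V ⊗[k] A) :
    x ∈ LinearMap.range (W.subtype.rTensor A) ↔ ∀ f : A →ₗ[k] k, slice f x ∈ W := by
  refine ⟨fun hx f => slice_mem_of_mem_range W f hx, fun h => ?_⟩
  obtain ⟨s, hs⟩ := exists_expansion x
  rw [hs]
  exact Submodule.sum_mem _ fun i _ => ⟨⟨_, h _⟩ ⊗ₜ[k] _, rfl⟩

lemma mem_range_lTensor_iff (D : Submodule k A) (x : V ⊗[k] A) :
    x ∈ LinearMap.range (D.subtype.lTensor V) ↔ ∀ g : V →ₗ[k] k, sliceL g x ∈ D := by
  refine ⟨fun hx g => sliceL_mem_of_mem_range D g hx, fun h => ?_⟩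
  have hex : Function.Exact (D.subtype.lTensor V) (D.mkQ.lTensor V) :=
    lTensor_exact V (LinearMap.exact_subtype_mkQ D) D.mkQ_surjective
  refine (hex x).1 (ext_sliceL fun g => ?_)
  rw [sliceL_lTensor, map_zero, Submodule.mkQ_apply, Submodule.Quotient.mk_eq_zero]
  exact h g

lemma mem_range_map_iff (B : Submodule k A) (x : A ⊗[k] A) :
    x ∈ LinearMap.range (TensorProduct.map B.subtype B.subtype) ↔
      x ∈ LinearMap.range (B.subtype.rTensor A) ∧ x ∈ LinearMap.range (B.subtype.lTensor A) := by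
  constructor
  · rintro ⟨y, rfl⟩
    constructor
    · exact ⟨B.subtype.lTensor B y, by
        rw [← LinearMap.comp_apply, LinearMap.rTensor_comp_lTensor]⟩
    · exact ⟨B.subtype.rTensor B y, by
        rw [← LinearMap.comp_apply, LinearMap.lTensor_comp_rTensor]⟩
  · rintro ⟨⟨y, hy⟩, ⟨z, hz⟩⟩
    obtain ⟨π, hπ⟩ := LinearMap.exists_leftInverse_of_injective B.subtype B.ker_subtype
    refine ⟨(TensorProduct.map π π) x, ?_⟩
    rw [← LinearMap.comp_apply, ← TensorProduct.map_comp,
      ← LinearMap.lTensor_comp_rTensor, LinearMap.comp_apply]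
    have h1 : (B.subtype ∘ₗ π).rTensor A x = x := by
      rw [← hy, ← LinearMap.rTensor_comp_apply, LinearMap.comp_assoc, hπ, LinearMap.comp_id]
    have h2 : (B.subtype ∘ₗ π).lTensor A x = x := by
      rw [← hz, ← LinearMap.lTensor_comp_apply, LinearMap.comp_assoc, hπ, LinearMap.comp_id]
    rw [h1, h2]

end ComodLib

end
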