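import Groth.Prelude.Def_W4c1tameactTame
import Groth.Prelude.Def_Hoch
import Groth.Prelude.Def_GLin
import Mathlib.RingTheory.HopfAlgebra.Convolution
import Mathlib.RingTheory.TensorProduct.Maps

/-! The Reynolds map of a total integral on Hopf modules, over any commutative base ring. -/

noncomputable section

open TensorProduct HopfRep WithConv Bialgebra

namespace ComodLib

universe u v w w'

variable {k : Type u} [CommRing k] {A : Type v} [CommRing A] [HopfAlgebra k A]

local notation "Sₐ" => HopfAlgebra.antipode k (A := A)
local notation "ι₁" => (Algebra.TensorProduct.includeLeft (S := k) : A →ₐ[k] A ⊗[k] A)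
local notation "ι₂" => (Algebra.TensorProduct.includeRight : A →ₐ[k] A ⊗[k] A)

/-- `(1 ⊗ b₁) Δ(S b₂) = S b ⊗ 1`. -/
lemma includeRight_mul_comul_antipode (b : A) :
    LinearMap.mul' k (A ⊗[k] A) (TensorProduct.map (ι₂).toLinearMap
      (CoalgebraStruct.comul (R := k) ∘ₗ Sₐ) (CoalgebraStruct.comul (R := k) b)) =
      Sₐ b ⊗ₜ[k] (1 : A) := by
  have h1 : toConv ((ι₁).toLinearMap ∘ₗ Sₐ) * toConv (ι₁).toLinearMap = 1 := by
    apply WithConv.ofConv_injective
    have h := LinearMap.algHom_comp_convMul_distrib ι₁ (toConv Sₐ) (toConv LinearMap.id)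
    rw [LinearMap.antipode_mul_id] at h
    rw [show (1 : WithConv (A →ₗ[k] A ⊗[k] A)).ofConv =
      (ι₁).toLinearMap ∘ₗ (1 : WithConv (A →ₗ[k] A)).ofConv from
        LinearMap.ext fun a => ((ι₁).commutes _).symm, h]
    rfl
  have h2 : toConv (CoalgebraStruct.comul (R := k) (A := A)) *
      toConv (CoalgebraStruct.comul (R := k) ∘ₗ Sₐ) = 1 := LinearMap.comul_right_inv
  have h3 : toConv (CoalgebraStruct.comul (R := k) (A := A)) =
      toConv (ι₁).toLinearMap * toConv (ι₂).toLinearMap := by
    apply WithConv.ofConv_injective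
    refine LinearMap.ext fun b => ?_
    rw [LinearMap.convMul_def]
    simp only [LinearMap.comp_apply]
    generalize CoalgebraStruct.comul (R := k) b = z
    induction z with
    | zero => simp
    | tmul x y => simp [Algebra.TensorProduct.tmul_mul_tmul]
    | add z z' hz hz' => rw [map_add, map_add, ← hz, ← hz']
  rw [h3] at h2
  have h4 : toConv (ι₂).toLinearMap * toConv (CoalgebraStruct.comul (R := k) ∘ₗ Sₐ) =
      toConv ((ι₁).toLinearMap ∘ₗ Sₐ) := by
    calc _ = (toConv ((ι₁).toLinearMap ∘ₗ Sₐ) * toConv (ι₁).toLinearMap) *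
          (toConv (ι₂).toLinearMap * toConv (CoalgebraStruct.comul (R := k) ∘ₗ Sₐ)) := by
            rw [h1, one_mul]
      _ = _ := by rw [mul_assoc, ← mul_assoc (toConv (ι₁).toLinearMap), h2, mul_one]
  have := LinearMap.congr_fun (congrArg WithConv.ofConv h4) b
  rw [LinearMap.convMul_def] at this
  exact this

variable {B : Type w} [CommRing B] [Algebra k B] [Comod k A B]
  {M : Type w'} [AddCommGroup M] [Module k M] [Module B M] [IsScalarTower k B M] [Comod k A M]
  [TameAct.IsHopfMod k A B M] {α : A →ₗ[k] B}

lemma coact_reynolds (hα : Hoch.IsComodHom A α) (m : M) :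
    Comod.coact (k := k) (A := A) (TameAct.reynolds k A B M α m) =
      TameAct.reynolds k A B M α m ⊗ₜ[k] (1 : A) := by
  -- the two-variable expression
  let Θ : M → A ⊗[k] A →ₗ[k] M ⊗[k] A := fun x =>
    TensorProduct.map ((((Algebra.lsmul k k M : B →ₐ[k] Module.End k M).toLinearMap.flip) x) ∘ₗ α)
      LinearMap.id
  let G : A ⊗[k] A →ₗ[k] A ⊗[k] A := LinearMap.mul' k (A ⊗[k] A) ∘ₗ
    TensorProduct.map (ι₂).toLinearMap (CoalgebraStruct.comul (R := k) ∘ₗ Sₐ)
  let Ψ : M ⊗[k] (A ⊗[k] A) →ₗ[k] M ⊗[k] A := TensorProduct.lift
    { toFun := fun x => Θ x ∘ₗ G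
      map_add' := fun x y => by
        simp only [Θ, map_add, LinearMap.add_comp, TensorProduct.map_add_left]
      map_smul' := fun c x => by
        simp only [Θ, map_smul, LinearMap.smul_comp, TensorProduct.map_smul_left, RingHom.id_apply] }
  have key : ∀ z : M ⊗[k] A, Comod.coact (k := k) (A := A) (TensorProduct.lift
      ((Algebra.lsmul k k M : B →ₐ[k] Module.End k M).toLinearMap ∘ₗ α ∘ₗ
        (HopfAlgebraStruct.antipode (R := k) (A := A))).flip z) =
      Ψ (TensorProduct.assoc k M A A ((Comod.coact (k := k) (A := A)).rTensor A z)) := by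
    intro z
    induction z with
    | zero => simp
    | tmul x b =>
      simp only [TensorProduct.lift.tmul, LinearMap.flip_apply, LinearMap.comp_apply,
        AlgHom.toLinearMap_apply, LinearMap.rTensor_tmul]
      show Comod.coact (k := k) (A := A) (α (Sₐ b) • x) = _
      rw [TameAct.IsHopfMod.coact_smul (k := k) (A := A),
        show Comod.coact (k := k) (A := A) (α (Sₐ b)) =
          α.rTensor A (CoalgebraStruct.comul (R := k) (Sₐ b)) from LinearMap.congr_fun hα _]
      generalize Comod.coact (k := k) (A := A) x = y
      induction y with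
      | zero => simp [TensorProduct.zero_tmul]
      | tmul x' a =>
        simp only [TensorProduct.assoc_tmul, Ψ, TensorProduct.lift.tmul, LinearMap.coe_mk,
          AddHom.coe_mk, LinearMap.comp_apply, G, TensorProduct.map_tmul, LinearMap.mul'_apply]
        generalize CoalgebraStruct.comul (R := k) (Sₐ b) = t
        induction t with
        | zero => simp
        | tmul c d =>
          simp [Θ, Algebra.TensorProduct.tmul_mul_tmul, mul_comm]
        | add t t' ht ht' => simp only [map_add, LinearMap.add_apply, mul_add, ht, ht']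
      | add y y' hy hy' => simp only [add_tmul, map_add, hy, hy']
    | add z z' hz hz' => simp only [map_add, hz, hz']
  show Comod.coact (k := k) (A := A) (TensorProduct.lift _ (Comod.coact (k := k) (A := A) m)) = _
  rw [key, show TensorProduct.assoc k M A A ((Comod.coact (k := k) (A := A)).rTensor A
    (Comod.coact (k := k) (A := A) m)) = _ from LinearMap.congr_fun Comod.coassoc m]
  simp only [TameAct.reynolds, LinearMap.comp_apply]
  generalize Comod.coact (k := k) (A := A) m = z
  induction z with
  | zero => simp [TensorProduct.zero_tmul]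
  | tmul x b =>
    simp only [LinearMap.lTensor_tmul, Ψ, TensorProduct.lift.tmul, LinearMap.coe_mk,
      AddHom.coe_mk, LinearMap.comp_apply, G, includeRight_mul_comul_antipode]
    simp [Θ]
  | add z z' hz hz' => simp only [map_add, add_tmul, hz, hz']

lemma reynolds_mem_fixedPts (hα : Hoch.IsComodHom A α) (m : M) :
    TameAct.reynolds k A B M α m ∈ fixedPts k A M := coact_reynolds hα m

omit [Comod k A B] [TameAct.IsHopfMod k A B M] in
lemma reynolds_eq_self (h1 : α 1 = 1) {m : M} (hm : m ∈ fixedPts k A M) :
    TameAct.reynolds k A B M α m = m := by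
  rw [TameAct.reynolds_apply_of_coact_eq k A B M α m m 1 hm]
  show α (Sₐ 1) • m = m
  rw [HopfAlgebra.antipode_one, h1, one_smul]

omit [Comod k A B] [TameAct.IsHopfMod k A B M] in
lemma reynolds_natural' {N : Type*} [AddCommGroup N] [Module k N] [Module B N] [IsScalarTower k B N]
    [Comod k A N] (α : A →ₗ[k] B) (f : M →ₗ[B] N) (hf : Hoch.IsComodHom A (f.restrictScalars k))
    (m : M) : f (TameAct.reynolds k A B M α m) = TameAct.reynolds k A B N α (f m) := by
  simp only [TameAct.reynolds, LinearMap.comp_apply]
  rw [show Comod.coact (k := k) (A := A) (f m) =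
    (f.restrictScalars k).rTensor A (Comod.coact (k := k) (A := A) m) from LinearMap.congr_fun hf m]
  generalize Comod.coact (k := k) (A := A) m = z
  induction z with
  | zero => simp
  | tmul x a => simp
  | add z z' hz hz' => simp only [map_add, hz, hz']

end ComodLib

end

namespace ComodLib

open TensorProduct HopfRep WithConv

universe u v w

section LeftInverse

variable {k : Type u} [CommRing k] {A : Type v} [CommRing A] [HopfAlgebra k A]
  {B : Type w} [CommRing B] [Algebra k B] [Comod k A B]

/-- `b ⊗ a ↦ b₀ α(S b₁ a)`. -/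
noncomputable def retr (α : A →ₗ[k] B) : B ⊗[k] A →ₗ[k] B :=
  LinearMap.mul' k B ∘ₗ
    (α ∘ₗ LinearMap.mul' k A ∘ₗ (HopfAlgebra.antipode k (A := A)).rTensor A).lTensor B ∘ₗ
    (TensorProduct.assoc k B A A).toLinearMap ∘ₗ (Comod.coact (k := k) (A := A)).rTensor A

lemma retr_coact {α : A →ₗ[k] B} (h1 : α 1 = 1) (b : B) :
    retr α (Comod.coact (k := k) (A := A) b) = b := by
  simp only [retr, LinearMap.comp_apply, LinearEquiv.coe_coe]
  rw [show TensorProduct.assoc k B A A ((Comod.coact (k := k) (A := A)).rTensor A
    (Comod.coact (k := k) (A := A) b)) = _ from LinearMap.congr_fun Comod.coassoc b,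
    LinearMap.comp_apply, ← LinearMap.lTensor_comp_apply, LinearMap.comp_assoc,
    LinearMap.comp_assoc]
  have e : LinearMap.mul' k A ∘ₗ (HopfAlgebra.antipode k (A := A)).rTensor A ∘ₗ
      CoalgebraStruct.comul = Algebra.linearMap k A ∘ₗ CoalgebraStruct.counit := by
    refine LinearMap.ext fun x => ?_
    simp [HopfAlgebra.mul_antipode_rTensor_comul_apply]
  rw [e]
  have hc := LinearMap.congr_fun (Comod.counit_comp (k := k) (A := A) (V := B)) b
  simp only [LinearMap.comp_apply] at hc
  rw [LinearMap.lTensor_comp, LinearMap.comp_apply, LinearMap.lTensor_comp, LinearMap.comp_apply, hc]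
  simp [h1]

lemma coact_retr [GLin.IsCoactAlg k A B] {α : A →ₗ[k] B} (hα : Hoch.IsComodHom A α)
    (y : B ⊗[k] A) :
    Comod.coact (k := k) (A := A) (retr α y) =
      (retr α).rTensor A ((TensorProduct.assoc k B A A).symm
        ((CoalgebraStruct.comul (R := k) (A := A)).lTensor B y)) := by
  induction y with
  | zero => simp
  | tmul b a =>
    let G : A ⊗[k] A →ₗ[k] A ⊗[k] A := LinearMap.mul' k (A ⊗[k] A) ∘ₗ
      TensorProduct.map (Algebra.TensorProduct.includeRight : A →ₐ[k] A ⊗[k] A).toLinearMap
        (CoalgebraStruct.comul (R := k) ∘ₗ HopfAlgebra.antipode k (A := A))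
    let Φ : A ⊗[k] A → B ⊗[k] (A ⊗[k] A) →ₗ[k] B ⊗[k] A := fun d =>
      (LinearMap.mul' k B).rTensor A ∘ₗ (TensorProduct.assoc k B B A).symm.toLinearMap ∘ₗ
        (α.rTensor A ∘ₗ LinearMap.mulRight k d ∘ₗ G).lTensor B
    have key : ∀ z : B ⊗[k] A, Comod.coact (k := k) (A := A) (LinearMap.mul' k B
        ((α ∘ₗ LinearMap.mul' k A ∘ₗ (HopfAlgebra.antipode k (A := A)).rTensor A).lTensor B
          (TensorProduct.assoc k B A A (z ⊗ₜ[k] a)))) =
        Φ (CoalgebraStruct.comul (R := k) a)
          (TensorProduct.assoc k B A A ((Comod.coact (k := k) (A := A)).rTensor A z)) := by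
      intro z
      induction z with
      | zero => simp [TensorProduct.zero_tmul]
      | tmul x c =>
        simp only [TensorProduct.assoc_tmul, LinearMap.lTensor_tmul, LinearMap.comp_apply,
          LinearMap.rTensor_tmul, LinearMap.mul'_apply]
        rw [GLin.IsCoactAlg.coact_mul (k := k) (A := A),
          show Comod.coact (k := k) (A := A) (α (HopfAlgebra.antipode k c * a)) =
            α.rTensor A (CoalgebraStruct.comul (R := k) (HopfAlgebra.antipode k c * a)) from
            LinearMap.congr_fun hα _, Bialgebra.comul_mul]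
        generalize Comod.coact (k := k) (A := A) x = w
        induction w with
        | zero => simp [TensorProduct.zero_tmul]
        | tmul x' e =>
          simp only [TensorProduct.assoc_tmul, Φ, LinearMap.comp_apply, LinearMap.lTensor_tmul,
            LinearEquiv.coe_coe, G, TensorProduct.map_tmul, LinearMap.mul'_apply,
            LinearMap.mulRight_apply, AlgHom.toLinearMap_apply,
            Algebra.TensorProduct.includeRight_apply, mul_assoc]
          generalize CoalgebraStruct.comul (R := k) (HopfAlgebra.antipode k c) *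
            CoalgebraStruct.comul (R := k) a = t
          induction t with
          | zero => simp
          | tmul p q => simp [Algebra.TensorProduct.tmul_mul_tmul]
          | add t t' ht ht' => simp only [map_add, mul_add, tmul_add, ht, ht']
        | add w w' hw hw' => simp only [add_tmul, map_add, add_mul, hw, hw']
      | add z z' hz hz' => simp only [map_add, add_tmul, hz, hz']
    simp only [retr, LinearMap.comp_apply, LinearEquiv.coe_coe, LinearMap.rTensor_tmul]
    rw [key, show TensorProduct.assoc k B A A ((Comod.coact (k := k) (A := A)).rTensor A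
      (Comod.coact (k := k) (A := A) b)) = _ from LinearMap.congr_fun Comod.coassoc b,
      LinearMap.lTensor_tmul, LinearMap.comp_apply]
    generalize CoalgebraStruct.comul (R := k) a = d
    induction d with
    | zero =>
      simp only [TensorProduct.tmul_zero, map_zero, Φ, LinearMap.mulRight_zero_eq_zero,
        LinearMap.zero_comp, LinearMap.comp_zero, LinearMap.lTensor_zero, LinearMap.zero_apply]
    | tmul p q =>
      simp only [TensorProduct.assoc_symm_tmul, LinearMap.rTensor_tmul, LinearMap.comp_apply,
        LinearEquiv.coe_coe]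
      generalize Comod.coact (k := k) (A := A) b = w
      induction w with
      | zero => simp [TensorProduct.zero_tmul]
      | tmul x c =>
        simp only [LinearMap.lTensor_tmul, Φ, LinearMap.comp_apply, LinearEquiv.coe_coe, G,
          includeRight_mul_comul_antipode, LinearMap.mulRight_apply,
          Algebra.TensorProduct.tmul_mul_tmul, one_mul, LinearMap.rTensor_tmul,
          TensorProduct.assoc_symm_tmul, TensorProduct.assoc_tmul, LinearMap.mul'_apply]
      | add w w' hw hw' => simp only [map_add, add_tmul, hw, hw']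
    | add d d' hd hd' =>
      simp only [TensorProduct.tmul_add, map_add, ← hd, ← hd', Φ, LinearMap.comp_apply,
        LinearEquiv.coe_coe]
      rw [← map_add, ← map_add, ← LinearMap.add_apply, ← LinearMap.lTensor_add,
        ← LinearMap.comp_add, ← LinearMap.add_comp,
        show LinearMap.mulRight k (d + d') = LinearMap.mulRight k d + LinearMap.mulRight k d' from
          LinearMap.ext fun x => by simp [mul_add]]
  | add y y' hy hy' => simp only [map_add, hy, hy']

end LeftInverse

end ComodLib
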