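import Groth.Agent.ComodLib.Slices
import Groth.Prelude.Def_HopfRep
import Groth.Prelude.Def_Hoch
import Mathlib.RingTheory.Coalgebra.Convolution
import Mathlib.RingTheory.SimpleModule.Basic

/-! Comodules as modules over the convolution algebra. -/

noncomputable section

open TensorProduct HopfRep WithConv

namespace ComodLib

universe u v w w'

variable {k : Type u} [Field k] {A : Type v} [AddCommGroup A] [Module k A] [Coalgebra k A]
  {V : Type w} [AddCommGroup V] [Module k V] [Comod k A V]
  {W : Type w'} [AddCommGroup W] [Module k W] [Comod k A W]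

/-- The convolution algebra of functionals on a coalgebra. -/
abbrev Dual' (k : Type u) [Field k] (A : Type v) [AddCommGroup A] [Module k A] : Type max u v :=
  WithConv (A →ₗ[k] k)

/-- The ring structure on the convolution algebra (helps instance search). -/
scoped instance dualRing : Ring (Dual' k A) :=
  LinearMap.convRing (R := k) (A := k) (C := A)

local notation "ρ" => Comod.coact (k := k) (A := A)

lemma coassoc_apply (v : V) :
    TensorProduct.assoc k V A A ((ρ : V →ₗ[k] V ⊗[k] A).rTensor A (ρ v)) =
      (CoalgebraStruct.comul (R := k) (A := A)).lTensor V (ρ v) :=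
  LinearMap.congr_fun (Comod.coassoc (k := k) (A := A) (V := V)) v

lemma slice_counit (v : V) : slice (CoalgebraStruct.counit (R := k) (A := A)) (ρ v) = v := by
  have h := LinearMap.congr_fun (Comod.counit_comp (k := k) (A := A) (V := V)) v
  rw [LinearMap.comp_apply] at h
  rw [slice, LinearMap.comp_apply, h]
  simp

lemma sliceL_sliceR {X : Type*} [AddCommGroup X] [Module k X] (f g : A →ₗ[k] k)
    (y : (X ⊗[k] A) ⊗[k] A) :
    slice f (slice g y) =
      slice (LinearMap.mul' k k ∘ₗ TensorProduct.map f g) (TensorProduct.assoc k X A A y) := by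
  induction y with
  | zero => simp
  | tmul z a =>
    induction z with
    | zero => simp [TensorProduct.zero_tmul]
    | tmul x b => simp [smul_smul, mul_comm]
    | add z z' hz hz' => simp only [add_tmul, map_add, hz, hz']
  | add y y' hy hy' => simp [hy, hy']

lemma slice_coact_mul (f g : Dual' k A) (v : V) :
    slice f.ofConv (ρ (slice g.ofConv (ρ v))) = slice (f * g).ofConv (ρ v) := by
  rw [← slice_rTensor, sliceL_sliceR, coassoc_apply, slice_lTensor]
  rfl

variable (k A V) in
/-- The action of the convolution algebra on a comodule. -/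
def actAlgHom : Dual' k A →ₐ[k] Module.End k V :=
  AlgHom.ofLinearMap
    { toFun := fun f => slice f.ofConv ∘ₗ (ρ : V →ₗ[k] V ⊗[k] A)
      map_add' := fun f g => LinearMap.ext fun v => slice_add f.ofConv g.ofConv _
      map_smul' := fun c f => LinearMap.ext fun v => slice_smul c f.ofConv _ }
    (LinearMap.ext fun v => by
      show slice (Algebra.linearMap k k ∘ₗ CoalgebraStruct.counit) (ρ v) = v
      rw [show Algebra.linearMap k k ∘ₗ CoalgebraStruct.counit (R := k) (A := A) =
        CoalgebraStruct.counit from LinearMap.ext fun a => rfl]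
      exact slice_counit v)
    (fun f g => LinearMap.ext fun v => (slice_coact_mul f g v).symm)

/-- A comodule is a module over the convolution algebra. -/
scoped instance dualModule : Module (Dual' k A) V :=
  Module.compHom V (actAlgHom k A V).toRingHom

lemma smul_eq (f : Dual' k A) (v : V) : f • v = slice f.ofConv (ρ v) := rfl

scoped instance dual_isScalarTower : IsScalarTower k (Dual' k A) V :=
  ⟨fun c f v => by
    rw [smul_eq, smul_eq]
    exact slice_smul c f.ofConv _⟩

scoped instance dual_smulComm : SMulCommClass k (Dual' k A) V :=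
  ⟨fun c f v => by rw [smul_eq, smul_eq, map_smul, map_smul]⟩

lemma isSubcomod_iff (S : Submodule k V) :
    IsSubcomod (k := k) (A := A) S ↔ ∀ f : Dual' k A, ∀ v ∈ S, f • v ∈ S := by
  refine ⟨fun h f v hv => slice_mem_of_mem_range S f.ofConv (h v hv), fun h v hv => ?_⟩
  exact (mem_range_rTensor_iff S _).2 fun f => h (toConv f) v hv

/-- A subcomodule as a submodule over the convolution algebra. -/
def toSub (S : Submodule k V) (h : IsSubcomod (k := k) (A := A) S) : Submodule (Dual' k A) V :=
  { S.toAddSubmonoid with smul_mem' := fun f v hv => (isSubcomod_iff S).1 h f v hv }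

@[simp] lemma toSub_restrictScalars (S : Submodule k V) (h : IsSubcomod (k := k) (A := A) S) :
    (toSub S h).restrictScalars k = S := rfl

lemma isSubcomod_restrictScalars (S : Submodule (Dual' k A) V) :
    IsSubcomod (k := k) (A := A) (S.restrictScalars k) :=
  (isSubcomod_iff _).2 fun f _ hv => S.smul_mem f hv

lemma isSemisimpleComod_iff :
    IsSemisimpleComod k A V ↔ IsSemisimpleModule (Dual' k A) V := by
  rw [isSemisimpleModule_iff]
  constructor
  · refine fun h => ⟨fun S => ?_⟩
    obtain ⟨T, hT, hc⟩ := h _ (isSubcomod_restrictScalars S)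
    refine ⟨toSub T hT, ?_⟩
    rw [← Submodule.isCompl_restrictScalars_iff k]
    exact hc
  · intro h S hS
    obtain ⟨T, hT⟩ := h.exists_isCompl (toSub S hS)
    refine ⟨T.restrictScalars k, isSubcomod_restrictScalars T, ?_⟩
    rw [← Submodule.isCompl_restrictScalars_iff k] at hT
    exact hT

lemma isSimpleComod_iff : IsSimpleComod k A V ↔ IsSimpleModule (Dual' k A) V := by
  rw [isSimpleModule_iff, isSimpleOrder_iff]
  constructor
  · rintro ⟨hn, h⟩
    refine ⟨inferInstance, fun S => ?_⟩
    rcases h _ (isSubcomod_restrictScalars S) with h' | h'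
    · exact Or.inl ((Submodule.restrictScalars_eq_bot_iff k _ _).1 h')
    · exact Or.inr ((Submodule.restrictScalars_eq_top_iff k _ _).1 h')
  · rintro ⟨hn, h⟩
    refine ⟨Submodule.nontrivial_iff (Dual' k A) |>.1 hn, fun S hS => ?_⟩
    rcases h (toSub S hS) with h' | h'
    · exact Or.inl (by rw [← toSub_restrictScalars S hS, h']; rfl)
    · exact Or.inr (by rw [← toSub_restrictScalars S hS, h']; rfl)

lemma isComodHom_iff (φ : V →ₗ[k] W) :
    Hoch.IsComodHom A φ ↔ ∀ (f : Dual' k A) (v : V), φ (f • v) = f • φ v := by
  constructor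
  · intro h f v
    have := LinearMap.congr_fun h v
    simp only [LinearMap.comp_apply] at this
    rw [smul_eq, smul_eq, this, slice_rTensor]
  · intro h
    refine LinearMap.ext fun v => ext_slice fun f => ?_
    rw [LinearMap.comp_apply, LinearMap.comp_apply, slice_rTensor]
    exact (h (toConv f) v).symm

/-- A comodule map as a linear map over the convolution algebra. -/
def toHom (φ : V →ₗ[k] W) (h : Hoch.IsComodHom A φ) : V →ₗ[Dual' k A] W :=
  { φ with map_smul' := fun f v => (isComodHom_iff φ).1 h f v }

@[simp] lemma toHom_apply (φ : V →ₗ[k] W) (h : Hoch.IsComodHom A φ) (v : V) :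
    toHom φ h v = φ v := rfl

lemma isComodHom_restrictScalars (φ : V →ₗ[Dual' k A] W) :
    Hoch.IsComodHom A (φ.restrictScalars k) :=
  (isComodHom_iff _).2 fun f v => φ.map_smul f v

lemma comul_sliceL (g : V →ₗ[k] k) (x : V ⊗[k] A) :
    CoalgebraStruct.comul (R := k) (A := A) (sliceL g x) =
      sliceL g ((CoalgebraStruct.comul (R := k) (A := A)).lTensor V x) :=
  (sliceL_lTensor g _ x).symm

lemma sliceL_assoc (g : V →ₗ[k] k) (y : (V ⊗[k] A) ⊗[k] A) :
    sliceL g (TensorProduct.assoc k V A A y) = (sliceL g).rTensor A y := by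
  induction y with
  | zero => simp
  | tmul z a =>
    induction z with
    | zero => simp [TensorProduct.zero_tmul]
    | tmul x b => simp [TensorProduct.smul_tmul']
    | add z z' hz hz' => simp only [add_tmul, map_add, hz, hz']
  | add y y' hy hy' => simp [hy, hy']

/-- A coefficient map from a comodule to the regular comodule. -/
def coeff (g : V →ₗ[k] k) : V →ₗ[Dual' k A] A :=
  toHom (sliceL g ∘ₗ (ρ : V →ₗ[k] V ⊗[k] A)) (LinearMap.ext fun v => by
    show CoalgebraStruct.comul (R := k) (A := A) (sliceL g (ρ v)) = _
    rw [comul_sliceL, ← coassoc_apply, sliceL_assoc, ← LinearMap.rTensor_comp_apply]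
    rfl)

lemma coeff_apply (g : V →ₗ[k] k) (v : V) : coeff (A := A) g v = sliceL g (ρ v) := rfl

lemma counit_coeff (g : V →ₗ[k] k) (v : V) :
    CoalgebraStruct.counit (R := k) (coeff (A := A) g v) = g v := by
  rw [coeff_apply, ← apply_slice, slice_counit]

lemma exists_coeff_of_hom (ψ : V →ₗ[Dual' k A] A) :
    coeff (A := A) (CoalgebraStruct.counit (R := k) (A := A) ∘ₗ ψ.restrictScalars k) = ψ := by
  refine LinearMap.ext fun v => ?_
  have h := LinearMap.congr_fun (isComodHom_restrictScalars ψ) v
  simp only [LinearMap.comp_apply, LinearMap.restrictScalars_apply] at h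
  rw [coeff_apply, ← sliceL_rTensor, ← h]
  show sliceL _ (CoalgebraStruct.comul (R := k) (A := A) (ψ v)) = ψ v
  rw [sliceL, LinearMap.comp_apply, Coalgebra.rTensor_counit_comul]
  simp

lemma exists_fg_smul_mem (v : V) :
    ∃ S : Submodule k V, S.FG ∧ ∀ f : Dual' k A, f • v ∈ S := by
  classical
  obtain ⟨s, hs⟩ := exists_expansion (ρ v)
  refine ⟨Submodule.span k ↑(s.image fun i => slice ((Module.Basis.ofVectorSpace k A).coord i) (ρ v)),
    ⟨_, rfl⟩, fun f => ?_⟩
  rw [smul_eq]
  have e : slice f.ofConv (ρ v) = ∑ i ∈ s, f.ofConv (Module.Basis.ofVectorSpace k A i) •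
      slice ((Module.Basis.ofVectorSpace k A).coord i) (ρ v) :=
    (congrArg (slice f.ofConv) hs).trans (by simp only [map_sum, slice_tmul])
  rw [e]
  refine Submodule.sum_mem _ fun i hi => ?_
  exact Submodule.smul_mem _ _ (Submodule.subset_span (Finset.mem_image_of_mem _ hi))

variable (A) in
lemma finite_span_singleton (v : V) :
    FiniteDimensional k ((Submodule.span (Dual' k A) ({v} : Set V)).restrictScalars k) := by
  obtain ⟨S, hS, h⟩ := exists_fg_smul_mem (k := k) (A := A) v
  have : FiniteDimensional k S := Module.Finite.iff_fg.2 hS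
  refine Submodule.finiteDimensional_of_le (S₂ := S) fun x hx => ?_
  rw [Submodule.restrictScalars_mem, Submodule.mem_span_singleton] at hx
  obtain ⟨f, rfl⟩ := hx
  exact h f

end ComodLib

end
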