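import Groth.Agent.ComodLib.HomRep
import Groth.Prelude.Def_W4c1tameactTame
import Mathlib.LinearAlgebra.Contraction
import Mathlib.RingTheory.TensorProduct.Maps

/-! `Hom(A, B)` as a relative Hopf module, for `A` finite projective. -/

noncomputable section

open TensorProduct HopfRep WithConv

namespace ComodLib

universe u v w

section Antipode

variable {k : Type u} [CommRing k] {A : Type v} [CommRing A] [HopfAlgebra k A]

local notation "Sₐ" => HopfAlgebra.antipode k (A := A)
local notation "ι₁" => (Algebra.TensorProduct.includeLeft (S := k) : A →ₐ[k] A ⊗[k] A)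
local notation "ι₂" => (Algebra.TensorProduct.includeRight : A →ₐ[k] A ⊗[k] A)

/-- The antipode reverses the comultiplication. -/
lemma comul_antipode' (b : A) :
    CoalgebraStruct.comul (R := k) (Sₐ b) =
      TensorProduct.map Sₐ Sₐ (TensorProduct.comm k A A (CoalgebraStruct.comul (R := k) b)) := by
  have inv : ∀ φ : A →ₐ[k] A ⊗[k] A, toConv (φ.toLinearMap ∘ₗ Sₐ) * toConv φ.toLinearMap = 1 := by
    intro φ
    apply WithConv.ofConv_injective
    have h := LinearMap.algHom_comp_convMul_distrib φ (toConv Sₐ) (toConv LinearMap.id)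
    rw [LinearMap.antipode_mul_id] at h
    rw [show (1 : WithConv (A →ₗ[k] A ⊗[k] A)).ofConv =
      φ.toLinearMap ∘ₗ (1 : WithConv (A →ₗ[k] A)).ofConv from
        LinearMap.ext fun a => (φ.commutes _).symm, h]
    rfl
  have h3 : toConv (CoalgebraStruct.comul (R := k) (A := A)) =
      toConv (ι₁).toLinearMap * toConv (ι₂).toLinearMap := by
    apply WithConv.ofConv_injective
    refine LinearMap.ext fun b => ?_
    rw [LinearMap.convMul_def]
    simp only [LinearMap.comp_apply]
    generalize CoalgebraStruct.comul (R := k) b = z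
    induction z with
    | zero => simp
    | tmul x y => simp [Algebra.TensorProduct.tmul_mul_tmul]
    | add z z' hz hz' => rw [map_add, map_add, ← hz, ← hz']
  have hl : toConv ((ι₂).toLinearMap ∘ₗ Sₐ) * toConv ((ι₁).toLinearMap ∘ₗ Sₐ) *
      toConv (CoalgebraStruct.comul (R := k) (A := A)) = 1 := by
    rw [h3, mul_assoc, ← mul_assoc (toConv ((ι₁).toLinearMap ∘ₗ Sₐ)), inv, one_mul, inv]
  have h4 := left_inv_eq_right_inv hl
    (LinearMap.comul_right_inv : _ * toConv (CoalgebraStruct.comul (R := k) ∘ₗ Sₐ) = 1)
  have := LinearMap.congr_fun (congrArg WithConv.ofConv h4) b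
  rw [LinearMap.convMul_def] at this
  refine Eq.trans this.symm ?_
  simp only [LinearMap.comp_apply]
  generalize CoalgebraStruct.comul (R := k) b = z
  induction z with
  | zero => simp
  | tmul x y => simp [Algebra.TensorProduct.tmul_mul_tmul]
  | add z z' hz hz' => simp only [map_add, hz, hz']

end Antipode

variable (k : Type u) [CommRing k] (A : Type v) [CommRing A] [HopfAlgebra k A]
  [Module.Finite k A] [Module.Projective k A]
  (B : Type w) [CommRing B] [Algebra k B] [Comod k A B]

/-- `h ⊗ a ↦ (v ↦ h v ⊗ a)`. -/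
abbrev homE (W : Type v) [AddCommGroup W] [Module k W] :
    (A →ₗ[k] B) ⊗[k] W ≃ₗ[k] A →ₗ[k] B ⊗[k] W :=
  rTensorHomEquivHomRTensor k A B W

lemma homE_tmul (W : Type v) [AddCommGroup W] [Module k W] (h : A →ₗ[k] B) (a : W) (v : A) :
    homE k A B W (h ⊗ₜ[k] a) v = h v ⊗ₜ[k] a := by simp [homE]

/-- `h ↦ (v ↦ ρ(h v₀) (1 ⊗ S v₁))`. -/
def homTw : (A →ₗ[k] B) →ₗ[k] A →ₗ[k] B ⊗[k] A where
  toFun h := tw (Comod.regular k A) (HopfAlgebra.antipode k) (Comod.coact (k := k) (A := A) ∘ₗ h)
  map_add' h g := by
    simp only [tw, LinearMap.comp_add, TensorProduct.map_add_left, LinearMap.add_comp]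
  map_smul' c h := by
    simp only [tw, LinearMap.comp_smul, TensorProduct.map_smul_left, LinearMap.smul_comp,
      RingHom.id_apply]

lemma homTw_apply (h : A →ₗ[k] B) (v : A) :
    homTw k A B h v = mulR (TensorProduct.map (Comod.coact (k := k) (A := A) ∘ₗ h)
      (HopfAlgebra.antipode k) (CoalgebraStruct.comul (R := k) v)) := rfl

/-- The coaction on `Hom(A, B)`. -/
def homCoact : (A →ₗ[k] B) →ₗ[k] (A →ₗ[k] B) ⊗[k] A :=
  (homE k A B A).symm.toLinearMap ∘ₗ homTw k A B

lemma homE_homCoact (h : A →ₗ[k] B) : homE k A B A (homCoact k A B h) = homTw k A B h := by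
  simp [homCoact]

variable {k A B}

omit [Module.Finite k A] [Module.Projective k A] [Comod k A B] in
lemma mulR_eq_mul (y : B ⊗[k] A) (c : A) : mulR (y ⊗ₜ[k] c) = y * ((1 : B) ⊗ₜ[k] c) := by
  induction y with
  | zero => simp [TensorProduct.zero_tmul]
  | tmul b a => simp [Algebra.TensorProduct.tmul_mul_tmul]
  | add y z hy hz => simp only [add_tmul, map_add, add_mul, hy, hz]

variable (k A B)

lemma homCoact_coassoc :
    (TensorProduct.assoc k (A →ₗ[k] B) A A).toLinearMap ∘ₗ (homCoact k A B).rTensor A ∘ₗ
      homCoact k A B = (CoalgebraStruct.comul (R := k) (A := A)).lTensor _ ∘ₗ homCoact k A B := by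
  refine LinearMap.ext fun h => (homE k A B (A ⊗[k] A)).injective (LinearMap.ext fun v => ?_)
  simp only [LinearMap.comp_apply, LinearEquiv.coe_coe]
  -- the coaction on `B`, twice
  let ρ : B →ₗ[k] B ⊗[k] A := Comod.coact (k := k) (A := A)
  let ρ2 : B →ₗ[k] B ⊗[k] (A ⊗[k] A) := (CoalgebraStruct.comul (R := k) (A := A)).lTensor B ∘ₗ ρ
  let N : (B ⊗[k] (A ⊗[k] A)) ⊗[k] (A ⊗[k] A) →ₗ[k] B ⊗[k] (A ⊗[k] A) :=
    LinearMap.mul' k _ ∘ₗ (Algebra.TensorProduct.includeRight :
      A ⊗[k] A →ₐ[k] B ⊗[k] (A ⊗[k] A)).toLinearMap.lTensor _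
  let SS : A ⊗[k] A →ₗ[k] A ⊗[k] A :=
    TensorProduct.map (HopfAlgebra.antipode k) (HopfAlgebra.antipode k) ∘ₗ
      (TensorProduct.comm k A A).toLinearMap
  let F : B ⊗[k] A →ₗ[k] B ⊗[k] (A ⊗[k] A) :=
    (TensorProduct.assoc k B A A).toLinearMap ∘ₗ ρ.rTensor A
  let M3 : (B ⊗[k] (A ⊗[k] A)) ⊗[k] A →ₗ[k] B ⊗[k] (A ⊗[k] A) :=
    N ∘ₗ (Algebra.TensorProduct.includeLeft (S := k) : A →ₐ[k] A ⊗[k] A).toLinearMap.lTensor _
  have e1 : ∀ x, homE k A B (A ⊗[k] A) ((CoalgebraStruct.comul (R := k) (A := A)).lTensor _ x) v =
      (CoalgebraStruct.comul (R := k) (A := A)).lTensor B (homE k A B A x v) := by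
    intro x
    induction x with
    | zero => simp
    | tmul g a => rw [LinearMap.lTensor_tmul, homE_tmul, homE_tmul, LinearMap.lTensor_tmul]
    | add x y hx hy => simp only [map_add, LinearMap.add_apply, hx, hy]
  have e3 : ∀ (y : (A →ₗ[k] B) ⊗[k] A) (a : A),
      homE k A B (A ⊗[k] A) (TensorProduct.assoc k (A →ₗ[k] B) A A (y ⊗ₜ[k] a)) v =
        TensorProduct.assoc k B A A (homE k A B A y v ⊗ₜ[k] a) := by
    intro y a
    induction y with
    | zero => simp [TensorProduct.zero_tmul]
    | tmul g c => simp [homE_tmul]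
    | add y z hy hz => simp only [add_tmul, map_add, LinearMap.add_apply, hy, hz]
  have e2 : ∀ x : (A →ₗ[k] B) ⊗[k] A, homE k A B (A ⊗[k] A)
      (TensorProduct.assoc k (A →ₗ[k] B) A A ((homCoact k A B).rTensor A x)) v =
      M3 (TensorProduct.map (F ∘ₗ homE k A B A x) (HopfAlgebra.antipode k)
        (CoalgebraStruct.comul (R := k) v)) := by
    intro x
    induction x with
    | zero => simp
    | tmul g a =>
      rw [LinearMap.rTensor_tmul, e3, homE_homCoact, homTw_apply]
      generalize CoalgebraStruct.comul (R := k) v = z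
      induction z with
      | zero => simp [TensorProduct.zero_tmul]
      | tmul p q =>
        simp only [TensorProduct.map_tmul, LinearMap.comp_apply, homE_tmul, mulR_eq_mul, F, M3, N,
          LinearEquiv.coe_coe, LinearMap.rTensor_tmul, LinearMap.lTensor_tmul]
        show _ = _
        generalize ρ (g p) = y
        induction y with
        | zero => simp [TensorProduct.zero_tmul]
        | tmul b c => simp [Algebra.TensorProduct.tmul_mul_tmul]
        | add y y' hy hy' => simp only [add_tmul, add_mul, map_add, hy, hy']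
      | add z z' hz hz' => simp only [map_add, add_tmul, hz, hz']
    | add x y hx hy =>
      simp only [map_add, LinearMap.add_apply, hx, hy, LinearMap.comp_add,
        TensorProduct.map_add_left]
  rw [e1, e2, homE_homCoact, homTw_apply]
  -- both sides are `N` applied to coassociativity in `A`
  have L : ∀ z, M3 (TensorProduct.map (F ∘ₗ homTw k A B h) (HopfAlgebra.antipode k) z) =
      N (TensorProduct.map (ρ2 ∘ₗ h) SS (TensorProduct.assoc k A A A
        ((CoalgebraStruct.comul (R := k) (A := A)).rTensor A z))) := by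
    intro z
    induction z with
    | zero => simp
    | tmul p q =>
      simp only [TensorProduct.map_tmul, LinearMap.comp_apply, homTw_apply, LinearMap.rTensor_tmul]
      generalize CoalgebraStruct.comul (R := k) p = t
      induction t with
      | zero => simp [TensorProduct.zero_tmul]
      | tmul r s =>
        have hco : ρ2 (h r) = F (ρ (h r)) := (LinearMap.congr_fun Comod.coassoc (h r)).symm
        simp only [TensorProduct.map_tmul, TensorProduct.assoc_tmul, LinearMap.comp_apply,
          mulR_eq_mul, hco, M3, N, SS, LinearEquiv.coe_coe, TensorProduct.comm_tmul,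
          LinearMap.lTensor_tmul]
        show _ = _
        generalize ρ (h r) = y
        induction y with
        | zero => simp [TensorProduct.zero_tmul]
        | tmul b c =>
          simp only [F, Algebra.TensorProduct.tmul_mul_tmul, mul_one, LinearMap.comp_apply,
            LinearMap.rTensor_tmul, LinearEquiv.coe_coe]
          generalize ρ b = w
          induction w with
          | zero => simp [TensorProduct.zero_tmul]
          | tmul b' c' => simp [Algebra.TensorProduct.tmul_mul_tmul, mul_assoc]
          | add w w' hw hw' => simp only [add_tmul, add_mul, map_add, hw, hw']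
        | add y y' hy hy' => simp only [add_tmul, add_mul, map_add, hy, hy']
      | add t t' ht ht' => simp only [map_add, add_tmul, ht, ht']
    | add z z' hz hz' => simp only [map_add, hz, hz']
  have R : ∀ z, (CoalgebraStruct.comul (R := k) (A := A)).lTensor B
      (mulR (TensorProduct.map (ρ ∘ₗ h) (HopfAlgebra.antipode k) z)) =
      N (TensorProduct.map (ρ2 ∘ₗ h) SS ((CoalgebraStruct.comul (R := k) (A := A)).lTensor A z)) := by
    intro z
    induction z with
    | zero => simp
    | tmul p q =>
      simp only [TensorProduct.map_tmul, LinearMap.comp_apply, LinearMap.lTensor_tmul, mulR_eq_mul,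
        N, SS, ρ2, LinearEquiv.coe_coe, ← comul_antipode']
      show _ = _
      generalize ρ (h p) = y
      induction y with
      | zero => simp [TensorProduct.zero_tmul]
      | tmul b c => simp [Algebra.TensorProduct.tmul_mul_tmul, Bialgebra.comul_mul]
      | add y y' hy hy' => simp only [add_mul, add_tmul, map_add, hy, hy']
    | add z z' hz hz' => simp only [map_add, hz, hz']
  rw [L]
  refine Eq.trans ?_ (R _).symm
  congr 2
  exact LinearMap.congr_fun (Coalgebra.coassoc (R := k) (A := A)) v

lemma homCoact_counit :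
    (CoalgebraStruct.counit (R := k) (A := A)).lTensor _ ∘ₗ homCoact k A B =
      (TensorProduct.mk k (A →ₗ[k] B) k).flip 1 := by
  refine LinearMap.ext fun h => ?_
  apply (rTensorHomEquivHomRTensor k A B k).injective
  refine LinearMap.ext fun v => ?_
  have e1 : ∀ x, rTensorHomEquivHomRTensor k A B k
      ((CoalgebraStruct.counit (R := k) (A := A)).lTensor _ x) v =
      (CoalgebraStruct.counit (R := k) (A := A)).lTensor B (homE k A B A x v) := by
    intro x
    induction x with
    | zero => simp
    | tmul g a => simp [homE]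
    | add x y hx hy => simp only [map_add, LinearMap.add_apply, hx, hy]
  rw [LinearMap.comp_apply, e1, homE_homCoact, homTw_apply]
  simp only [LinearMap.flip_apply, TensorProduct.mk_apply, rTensorHomEquivHomRTensor_apply,
    rTensorHomToHomRTensor_apply]
  have key : ∀ z : A ⊗[k] A, (CoalgebraStruct.counit (R := k) (A := A)).lTensor B
      (mulR (TensorProduct.map (Comod.coact (k := k) (A := A) ∘ₗ h) (HopfAlgebra.antipode k) z)) =
      h (TensorProduct.rid k A ((CoalgebraStruct.counit (R := k) (A := A)).lTensor A z)) ⊗ₜ[k] 1 := by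
    intro z
    induction z with
    | zero => simp [TensorProduct.zero_tmul]
    | tmul p q =>
      have hc := LinearMap.congr_fun (Comod.counit_comp (k := k) (A := A) (V := B)) (h p)
      simp only [LinearMap.comp_apply, LinearMap.flip_apply, TensorProduct.mk_apply] at hc
      simp only [TensorProduct.map_tmul, LinearMap.comp_apply, LinearMap.lTensor_tmul,
        TensorProduct.rid_tmul, map_smul, ← TensorProduct.smul_tmul', ← hc]
      generalize Comod.coact (k := k) (A := A) (h p) = y
      induction y with
      | zero => simp [TensorProduct.zero_tmul]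
      | tmul b c =>
        simp [HopfAlgebra.counit_antipode, mul_comm, ← TensorProduct.tmul_smul]
      | add y y' hy hy' => simp only [add_tmul, map_add, smul_add, hy, hy']
    | add z z' hz hz' => simp only [map_add, add_tmul, hz, hz']
  rw [key, Coalgebra.lTensor_counit_comul]
  simp

/-- `Hom(A, B)` as a comodule. -/
@[implicit_reducible] def homComod : Comod k A (A →ₗ[k] B) :=
  ⟨homCoact k A B, homCoact_coassoc k A B, homCoact_counit k A B⟩

lemma homComod_isHopfMod [GLin.IsCoactAlg k A B] :
    letI := homComod k A B; TameAct.IsHopfMod k A B (A →ₗ[k] B) := by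
  let _ := homComod k A B
  refine ⟨fun b h => (homE k A B A).injective (LinearMap.ext fun v => ?_)⟩
  have e : ∀ (y : B ⊗[k] A) (x : (A →ₗ[k] B) ⊗[k] A),
      homE k A B A (TameAct.hmSMul k A B _ y x) v = y * homE k A B A x v := by
    intro y x
    induction y with
    | zero => simp
    | tmul c a =>
      induction x with
      | zero => simp
      | tmul g a' => simp [homE, Algebra.TensorProduct.tmul_mul_tmul]
      | add x x' hx hx' => simp only [map_add, LinearMap.add_apply, mul_add, hx, hx']
    | add y y' hy hy' => simp only [map_add, LinearMap.add_apply, add_mul, hy, hy']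
  show homE k A B A (homCoact k A B (b • h)) v =
    homE k A B A (TameAct.hmSMul k A B _ _ (homCoact k A B h)) v
  rw [e, homE_homCoact, homE_homCoact, homTw_apply, homTw_apply]
  generalize CoalgebraStruct.comul (R := k) v = z
  induction z with
  | zero => simp
  | tmul p q =>
    simp only [TensorProduct.map_tmul, LinearMap.comp_apply, LinearMap.smul_apply, smul_eq_mul,
      mulR_eq_mul, GLin.IsCoactAlg.coact_mul (k := k) (A := A), mul_assoc]
  | add z z' hz hz' => simp only [map_add, mul_add, hz, hz']

lemma mem_fixedPts_homComod (h : A →ₗ[k] B)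
    (hh : letI := homComod k A B; h ∈ fixedPts k A (A →ₗ[k] B)) :
    Hoch.IsComodHom A h := by
  refine (isComodHom_iff_tw (Comod.regular k A) (inferInstance) h).2 (LinearMap.ext fun v => ?_)
  have h' : homTw k A B h v = homE k A B A (h ⊗ₜ[k] (1 : A)) v := by
    rw [← homE_homCoact]
    exact LinearMap.congr_fun (congrArg (homE k A B A) hh) v
  rw [homE_tmul] at h'
  exact h'

end ComodLib

end
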