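import Groth.Agent.ComodLib.Dual
import Mathlib.RingTheory.HopfAlgebra.Convolution
import Mathlib.LinearAlgebra.Trace
import Mathlib.RingTheory.Trace.Basic
import Mathlib.RingTheory.TensorProduct.Free

/-! Invariant functionals on Hopf algebras and averaging of projections. -/

noncomputable section

open TensorProduct HopfRep WithConv Bialgebra

namespace ComodLib

universe u v w

variable {k : Type u} [Field k] {A : Type v} [Ring A] [HopfAlgebra k A]
  {V : Type w} [AddCommGroup V] [Module k V] [Comod k A V]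

local notation "Δ" => CoalgebraStruct.comul (R := k) (A := A)
local notation "Sₐ" => HopfAlgebra.antipode k (A := A)

lemma sliceL_one_tmul_mul (α : A →ₗ[k] k) (c : A) (y : A ⊗[k] A) :
    sliceL α ((1 ⊗ₜ[k] c) * y) = c * sliceL α y := by
  induction y with
  | zero => simp
  | tmul a b => simp [Algebra.TensorProduct.tmul_mul_tmul]
  | add y z hy hz => simp [mul_add, hy, hz]

lemma sliceL_tmul_one_mul (α : A →ₗ[k] k) (c : A) (y : A ⊗[k] A) :
    sliceL α ((c ⊗ₜ[k] 1) * y) = sliceL (α ∘ₗ LinearMap.mulLeft k c) y := by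
  induction y with
  | zero => simp
  | tmul a b => simp [Algebra.TensorProduct.tmul_mul_tmul]
  | add y z hy hz => simp [mul_add, hy, hz]

lemma comul_eq_includeLeft_mul_includeRight :
    toConv (Δ) = toConv (Algebra.TensorProduct.includeLeft (S := k) : A →ₐ[k] A ⊗[k] A).toLinearMap *
      toConv (Algebra.TensorProduct.includeRight : A →ₐ[k] A ⊗[k] A).toLinearMap := by
  apply WithConv.ofConv_injective
  refine LinearMap.ext fun b => ?_
  rw [LinearMap.convMul_def]
  simp only [LinearMap.comp_apply]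
  generalize Δ b = z
  induction z with
  | zero => simp
  | tmul x y => simp [Algebra.TensorProduct.tmul_mul_tmul]
  | add z z' hz hz' => rw [map_add, map_add, ← hz, ← hz']

lemma key_conv :
    toConv (Algebra.TensorProduct.includeRight : A →ₐ[k] A ⊗[k] A).toLinearMap *
        toConv (Δ ∘ₗ Sₐ) =
      toConv ((Algebra.TensorProduct.includeLeft (S := k) : A →ₐ[k] A ⊗[k] A).toLinearMap ∘ₗ Sₐ) := by
  have h1 : toConv ((Algebra.TensorProduct.includeLeft (S := k) : A →ₐ[k] A ⊗[k] A).toLinearMap ∘ₗ Sₐ) *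
      toConv (Algebra.TensorProduct.includeLeft (S := k) : A →ₐ[k] A ⊗[k] A).toLinearMap = 1 := by
    apply WithConv.ofConv_injective
    have h := LinearMap.algHom_comp_convMul_distrib
      (Algebra.TensorProduct.includeLeft (S := k) : A →ₐ[k] A ⊗[k] A) (toConv Sₐ) (toConv LinearMap.id)
    rw [LinearMap.antipode_mul_id] at h
    rw [show (1 : WithConv (A →ₗ[k] A ⊗[k] A)).ofConv =
      (Algebra.TensorProduct.includeLeft (S := k) : A →ₐ[k] A ⊗[k] A).toLinearMap ∘ₗ
        (1 : WithConv (A →ₗ[k] A)).ofConv from LinearMap.ext fun a =>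
          (((Algebra.TensorProduct.includeLeft (S := k) : A →ₐ[k] A ⊗[k] A)).commutes _).symm]
    rw [h]
    rfl
  have h2 : toConv (Δ) * toConv (Δ ∘ₗ Sₐ) = 1 := by
    apply WithConv.ofConv_injective
    have h := LinearMap.algHom_comp_convMul_distrib (comulAlgHom k A) (toConv LinearMap.id)
      (toConv Sₐ)
    rw [LinearMap.id_mul_antipode] at h
    rw [show (1 : WithConv (A →ₗ[k] A ⊗[k] A)).ofConv =
      (comulAlgHom k A).toLinearMap ∘ₗ (1 : WithConv (A →ₗ[k] A)).ofConv from
        LinearMap.ext fun a => ((comulAlgHom k A).commutes _).symm]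
    rw [h]
    rfl
  rw [comul_eq_includeLeft_mul_includeRight] at h2
  calc _ = (toConv ((Algebra.TensorProduct.includeLeft (S := k) : A →ₐ[k] A ⊗[k] A).toLinearMap ∘ₗ Sₐ) *
        toConv (Algebra.TensorProduct.includeLeft (S := k) : A →ₐ[k] A ⊗[k] A).toLinearMap) *
        (toConv (Algebra.TensorProduct.includeRight : A →ₐ[k] A ⊗[k] A).toLinearMap *
          toConv (Δ ∘ₗ Sₐ)) := by rw [h1, one_mul]
    _ = _ := by rw [mul_assoc, ← mul_assoc (toConv (Algebra.TensorProduct.includeLeft (S := k) :
        A →ₐ[k] A ⊗[k] A).toLinearMap), h2, mul_one]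

/-- A functional `α` is invariant when `(α ⊗ 1) Δ x = α x`. -/
def IsInvariant (α : A →ₗ[k] k) : Prop := ∀ x : A, sliceL α (Δ x) = α x • (1 : A)

variable {α : A →ₗ[k] k}

lemma key_identity (hα : IsInvariant α) (a b : A) :
    slice (α ∘ₗ LinearMap.mulRight k a ∘ₗ Sₐ) (Δ b) =
      sliceL (α ∘ₗ LinearMap.mulLeft k (Sₐ b)) (Δ a) := by
  have h := LinearMap.congr_fun (congrArg WithConv.ofConv (key_conv (k := k) (A := A))) b
  rw [LinearMap.convMul_def] at h
  simp only [LinearMap.comp_apply, AlgHom.toLinearMap_apply,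
    Algebra.TensorProduct.includeLeft_apply] at h
  rw [← sliceL_tmul_one_mul, ← h]
  generalize Δ b = z
  induction z with
  | zero => simp
  | tmul x y =>
    simp only [slice_tmul, TensorProduct.map_tmul, LinearMap.mul'_apply, LinearMap.comp_apply,
      AlgHom.toLinearMap_apply, Algebra.TensorProduct.includeRight_apply,
      LinearMap.mulRight_apply, mul_assoc]
    rw [sliceL_one_tmul_mul, ← Bialgebra.comul_mul, hα, mul_smul_comm, mul_one]
  | add z z' hz hz' => simp [hz, hz', add_mul]

/-- The kernel of the averaging operator. -/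
def avgKer (α : A →ₗ[k] k) : A ⊗[k] A →ₗ[k] k :=
  α ∘ₗ LinearMap.mul' k A ∘ₗ (Sₐ).rTensor A

/-- The averaging map `v ⊗ a ↦ p(v)₀ α(S(p(v)₁) a)`. -/
def avgMap (α : A →ₗ[k] k) (p : V →ₗ[k] V) : V ⊗[k] A →ₗ[k] V :=
  slice (avgKer α) ∘ₗ (TensorProduct.assoc k V A A).toLinearMap ∘ₗ
    ((Comod.coact (k := k) (A := A)) ∘ₗ p).rTensor A

lemma slice_avgKer (α : A →ₗ[k] k) {X : Type*} [AddCommGroup X] [Module k X] (z : X ⊗[k] A)
    (a : A) :
    slice (avgKer α) (TensorProduct.assoc k X A A (z ⊗ₜ[k] a)) =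
      slice (α ∘ₗ LinearMap.mulRight k a ∘ₗ Sₐ) z := by
  induction z with
  | zero => simp [TensorProduct.zero_tmul]
  | tmul x b => simp [avgKer]
  | add z z' hz hz' => simp only [add_tmul, map_add, hz, hz']

lemma avgMap_tmul (α : A →ₗ[k] k) (p : V →ₗ[k] V) (v : V) (a : A) :
    avgMap α p (v ⊗ₜ[k] a) =
      slice (α ∘ₗ LinearMap.mulRight k a ∘ₗ Sₐ) (Comod.coact (k := k) (A := A) (p v)) := by
  simp only [avgMap, LinearMap.comp_apply, LinearMap.rTensor_tmul, LinearEquiv.coe_coe]
  exact slice_avgKer α _ a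

lemma slice_assoc_symm {X : Type*} [AddCommGroup X] [Module k X] (h : A →ₗ[k] k)
    (w : X ⊗[k] (A ⊗[k] A)) :
    slice h ((TensorProduct.assoc k X A A).symm w) = (slice (V := A) h).lTensor X w := by
  induction w with
  | zero => simp
  | tmul x t =>
    induction t with
    | zero => simp [TensorProduct.tmul_zero]
    | tmul a b => simp [TensorProduct.tmul_smul]
    | add t t' ht ht' => simp only [tmul_add, map_add, ht, ht']
  | add w w' hw hw' => simp [hw, hw']

lemma sliceL_add {X : Type*} [AddCommGroup X] [Module k X] (g g' : X →ₗ[k] k)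
    (z : X ⊗[k] A) : sliceL (g + g') z = sliceL g z + sliceL g' z := by
  simp [sliceL, LinearMap.rTensor_add]

lemma sliceL_smul {X : Type*} [AddCommGroup X] [Module k X] (c : k) (g : X →ₗ[k] k)
    (z : X ⊗[k] A) : sliceL (c • g) z = c • sliceL g z := by
  simp [sliceL, LinearMap.rTensor_smul]

/-- `b ↦ (α (S b * ·) ⊗ 1) t`, linearly in `b`. -/
def mulSlice (α : A →ₗ[k] k) (t : A ⊗[k] A) : A →ₗ[k] A where
  toFun b := sliceL (α ∘ₗ LinearMap.mulLeft k (Sₐ b)) t
  map_add' b c := by
    rw [← sliceL_add]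
    exact congrArg (sliceL · t) (LinearMap.ext fun x => by simp [add_mul])
  map_smul' r b := by
    rw [RingHom.id_apply, ← sliceL_smul]
    exact congrArg (sliceL · t) (LinearMap.ext fun x => by simp)

lemma avgMap_rTensor_assoc_symm (α : A →ₗ[k] k) (p : V →ₗ[k] V) (v : V) (t : A ⊗[k] A)
    (E : A →ₗ[k] A) (hE : ∀ b, E b = sliceL (α ∘ₗ LinearMap.mulLeft k (Sₐ b)) t) :
    (avgMap α p).rTensor A ((TensorProduct.assoc k V A A).symm (v ⊗ₜ[k] t)) =
      E.lTensor V (Comod.coact (k := k) (A := A) (p v)) := by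
  induction t generalizing E with
  | zero =>
    have : E = 0 := LinearMap.ext fun b => by simp [hE b]
    simp [this]
  | tmul x y =>
    simp only [TensorProduct.assoc_symm_tmul, LinearMap.rTensor_tmul, avgMap_tmul]
    generalize Comod.coact (k := k) (A := A) (p v) = z
    induction z with
    | zero => simp [TensorProduct.zero_tmul]
    | tmul q b =>
      rw [slice_tmul, LinearMap.lTensor_tmul, hE b, sliceL_tmul, ← TensorProduct.smul_tmul]
      rfl
    | add z z' hz hz' => simp only [map_add, add_tmul, hz, hz']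
  | add t t' ht ht' =>
    let E₁ : A →ₗ[k] A := mulSlice α t
    rw [tmul_add, map_add, map_add, ht E₁ (fun b => rfl), ht' (E - E₁) (fun b => by
      rw [LinearMap.sub_apply, hE b]
      show _ - sliceL _ t = _
      rw [map_add, add_sub_cancel_left]), LinearMap.lTensor_sub, LinearMap.sub_apply,
      add_sub_cancel]

lemma coact_avgMap (hα : IsInvariant α) (p : V →ₗ[k] V) (y : V ⊗[k] A) :
    Comod.coact (k := k) (A := A) (avgMap α p y) =
      (avgMap α p).rTensor A ((TensorProduct.assoc k V A A).symm ((Δ).lTensor V y)) := by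
  induction y with
  | zero => simp
  | tmul v a =>
    rw [avgMap_tmul, ← slice_rTensor, LinearMap.lTensor_tmul,
      avgMap_rTensor_assoc_symm α p v (Δ a)
        (slice (α ∘ₗ LinearMap.mulRight k a ∘ₗ Sₐ) ∘ₗ Δ) (fun b => key_identity hα a b),
      LinearMap.lTensor_comp_apply, ← slice_assoc_symm, ← coassoc_apply,
      LinearEquiv.symm_apply_apply]
  | add y y' hy hy' => simp only [map_add, hy, hy']

lemma isComodHom_avg (hα : IsInvariant α) (p : V →ₗ[k] V) :
    Hoch.IsComodHom A (avgMap α p ∘ₗ Comod.coact (k := k) (A := A)) := by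
  refine LinearMap.ext fun v => ?_
  simp only [LinearMap.comp_apply, LinearMap.rTensor_comp_apply]
  rw [coact_avgMap hα, ← coassoc_apply, LinearEquiv.symm_apply_apply]

/-- An invariant functional with `α 1 = 1` makes all comodules semisimple. -/
lemma isSemisimpleComod_of_invariant (hα : IsInvariant α) (h1 : α 1 = 1) :
    IsSemisimpleComod k A V := by
  intro W hW
  obtain ⟨π, hπ⟩ := LinearMap.exists_leftInverse_of_injective W.subtype W.ker_subtype
  set p : V →ₗ[k] V := W.subtype ∘ₗ π
  set q : V →ₗ[k] V := avgMap α p ∘ₗ Comod.coact (k := k) (A := A)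
  have hmem : ∀ y, avgMap α p y ∈ W := by
    intro y
    induction y with
    | zero => simp
    | tmul v a =>
      rw [avgMap_tmul]
      exact slice_mem_of_mem_range W _ (hW _ (Subtype.coe_prop _))
    | add y y' hy hy' => rw [map_add]; exact add_mem hy hy'
  have hfix : ∀ w ∈ W, q w = w := by
    intro w hw
    obtain ⟨y, hy⟩ := hW w hw
    have hp : p.rTensor A (Comod.coact (k := k) (A := A) w) = Comod.coact (k := k) (A := A) w := by
      rw [← hy, ← LinearMap.rTensor_comp_apply, LinearMap.comp_assoc, hπ, LinearMap.comp_id]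
    have hM : avgKer α ∘ₗ Δ = CoalgebraStruct.counit (R := k) (A := A) := LinearMap.ext fun b => by
      simp only [avgKer, LinearMap.comp_apply, HopfAlgebra.mul_antipode_rTensor_comul_apply,
        Algebra.algebraMap_eq_smul_one, map_smul, h1, smul_eq_mul, mul_one]
    show slice (avgKer α) (TensorProduct.assoc k V A A
      (((Comod.coact (k := k) (A := A)) ∘ₗ p).rTensor A (Comod.coact (k := k) (A := A) w))) = w
    rw [LinearMap.rTensor_comp_apply, hp, coassoc_apply, slice_lTensor, hM, slice_counit]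
  refine ⟨LinearMap.ker q, ?_, ?_⟩
  · rw [isSubcomod_iff]
    intro f v hv
    rw [LinearMap.mem_ker] at hv ⊢
    rw [(isComodHom_iff q).1 (isComodHom_avg hα p) f v, hv, smul_zero]
  · exact LinearMap.isCompl_of_proj (f := q.codRestrict W fun v => hmem _)
      (fun x => Subtype.ext (hfix x x.2)) |> fun h => by rwa [LinearMap.ker_codRestrict] at h

section Trace

variable {A : Type v} [CommRing A] [HopfAlgebra k A] [Module.Finite k A]

/-- Left multiplication by the twisted comultiplication. -/
def twist : A →ₐ[k] A ⊗[k] A :=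
  (Algebra.TensorProduct.comm k A A).toAlgHom.comp (comulAlgHom k A)

lemma twist_conv :
    toConv (Algebra.TensorProduct.includeRight : A →ₐ[k] A ⊗[k] A).toLinearMap *
        toConv (Algebra.TensorProduct.includeLeft (S := k) : A →ₐ[k] A ⊗[k] A).toLinearMap =
      toConv (twist (k := k) (A := A)).toLinearMap := by
  apply WithConv.ofConv_injective
  refine LinearMap.ext fun b => ?_
  rw [LinearMap.convMul_def]
  simp only [LinearMap.comp_apply, twist, AlgHom.toLinearMap_apply, AlgHom.comp_apply,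
    Bialgebra.comulAlgHom_apply]
  generalize CoalgebraStruct.comul (R := k) b = z
  induction z with
  | zero => simp
  | tmul x y => simp [Algebra.TensorProduct.tmul_mul_tmul]
  | add z z' hz hz' => rw [map_add, map_add, map_add, hz, hz']

/-- The trace form is invariant. -/
lemma isInvariant_trace : IsInvariant (Algebra.trace k A) := by
  let i1 : A →ₐ[k] A ⊗[k] A := Algebra.TensorProduct.includeLeft (S := k)
  let i2 : A →ₐ[k] A ⊗[k] A := Algebra.TensorProduct.includeRight
  let θ : A ⊗[k] A →ₐ[A] A ⊗[k] A :=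
    Algebra.TensorProduct.lift (Algebra.ofId A (A ⊗[k] A)) (twist (k := k) (A := A))
      (fun _ _ => mul_comm _ _)
  have hθ1 : ∀ a, θ (a ⊗ₜ[k] (1 : A)) = a ⊗ₜ[k] (1 : A) := fun a => by
    simp [θ, Algebra.ofId_apply, Algebra.TensorProduct.algebraMap_apply]
  have hθ2 : ∀ a, θ ((1 : A) ⊗ₜ[k] a) = twist (k := k) a := fun a => by
    simp [θ, ← Algebra.TensorProduct.one_def]
  let σ : WithConv (A →ₗ[k] A ⊗[k] A) :=
    toConv i2.toLinearMap * toConv (i1.toLinearMap ∘ₗ HopfAlgebra.antipode k)
  have hS1 : toConv (i1.toLinearMap ∘ₗ HopfAlgebra.antipode k) * toConv i1.toLinearMap = 1 := by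
    apply WithConv.ofConv_injective
    have h := LinearMap.algHom_comp_convMul_distrib i1 (toConv (HopfAlgebra.antipode k))
      (toConv LinearMap.id)
    rw [LinearMap.antipode_mul_id] at h
    rw [show (1 : WithConv (A →ₗ[k] A ⊗[k] A)).ofConv =
      i1.toLinearMap ∘ₗ (1 : WithConv (A →ₗ[k] A)).ofConv from
        LinearMap.ext fun a => (i1.commutes _).symm, h]
    rfl
  have hS2 : toConv i1.toLinearMap * toConv (i1.toLinearMap ∘ₗ HopfAlgebra.antipode k) = 1 := by
    apply WithConv.ofConv_injective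
    have h := LinearMap.algHom_comp_convMul_distrib i1 (toConv LinearMap.id)
      (toConv (HopfAlgebra.antipode k))
    rw [LinearMap.id_mul_antipode] at h
    rw [show (1 : WithConv (A →ₗ[k] A ⊗[k] A)).ofConv =
      i1.toLinearMap ∘ₗ (1 : WithConv (A →ₗ[k] A)).ofConv from
        LinearMap.ext fun a => (i1.commutes _).symm, h]
    rfl
  -- θ is surjective
  let θk : A ⊗[k] A →ₐ[k] A ⊗[k] A := θ.restrictScalars k
  have hσ : θk.toLinearMap ∘ₗ σ.ofConv = i2.toLinearMap := by
    rw [LinearMap.algHom_comp_convMul_distrib,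
      show θk.toLinearMap ∘ₗ (toConv i2.toLinearMap).ofConv = (twist (k := k) (A := A)).toLinearMap
        from LinearMap.ext hθ2,
      show θk.toLinearMap ∘ₗ (toConv (i1.toLinearMap ∘ₗ HopfAlgebra.antipode k)).ofConv =
        i1.toLinearMap ∘ₗ HopfAlgebra.antipode k from LinearMap.ext fun a => hθ1 _,
      ← twist_conv]
    show (toConv i2.toLinearMap * toConv i1.toLinearMap *
      toConv (i1.toLinearMap ∘ₗ HopfAlgebra.antipode k)).ofConv = _
    rw [mul_assoc, hS2, mul_one]
  have hsurj : Function.Surjective θ := by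
    intro z
    induction z with
    | zero => exact ⟨0, map_zero _⟩
    | tmul c a =>
      refine ⟨(c ⊗ₜ[k] 1) * σ.ofConv a, ?_⟩
      rw [map_mul, hθ1, show θ (σ.ofConv a) = i2 a from LinearMap.congr_fun hσ a]
      simp [i2, Algebra.TensorProduct.tmul_mul_tmul]
    | add z z' hz hz' =>
      obtain ⟨x, rfl⟩ := hz
      obtain ⟨y, rfl⟩ := hz'
      exact ⟨x + y, map_add _ _ _⟩
  let e : (A ⊗[k] A) ≃ₐ[A] (A ⊗[k] A) := AlgEquiv.ofBijective θ
    ⟨OrzechProperty.injective_of_surjective_endomorphism θ.toLinearMap hsurj, hsurj⟩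
  intro x
  have hbase : ∀ c a : A, Algebra.trace A (A ⊗[k] A) (c ⊗ₜ[k] a) = c * algebraMap k A
      (Algebra.trace k A a) := by
    intro c a
    rw [show c ⊗ₜ[k] a = c • ((1 : A) ⊗ₜ[k] a) by simp [TensorProduct.smul_tmul'], map_smul,
      smul_eq_mul]
    congr 1
    rw [Algebra.trace_apply, Algebra.trace_apply, ← LinearMap.trace_baseChange]
    congr 1
    refine TensorProduct.AlgebraTensorModule.ext fun c b => ?_
    simp [Algebra.TensorProduct.tmul_mul_tmul]
  have h := Algebra.trace_eq_of_algEquiv e ((1 : A) ⊗ₜ[k] x)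
  rw [show e ((1 : A) ⊗ₜ[k] x) = twist (k := k) x from hθ2 x, hbase, one_mul] at h
  rw [Algebra.smul_def, mul_one, ← h, twist, AlgHom.comp_apply, Bialgebra.comulAlgHom_apply]
  generalize CoalgebraStruct.comul (R := k) x = z
  induction z with
  | zero => simp
  | tmul a b =>
    simp only [AlgEquiv.coe_toAlgHom, Algebra.TensorProduct.comm_tmul, hbase, sliceL_tmul]
    rw [Algebra.smul_def, mul_comm]
  | add z z' hz hz' => simp only [map_add, hz, hz']

end Trace

end ComodLib

end
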